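import Cfsg.Agent.H748.PalfyClifford
import Cfsg.Agent.H273.PalfyDef
import Cfsg.Agent.S4493
import Cfsg.Agent.S4448
import Cfsg.Agent.Solvable.Carter
import Cfsg.Agent.Lib.CoprimeAbelian
import Cfsg.Agent.Lib.CoprimeCommutator
import Cfsg.Agent.Lib.CoprimeStab
set_option linter.all false

-- part: H748/PalfyBase
section
/-!
# Sylow subgroups of stabilisers and the action on linear characters (helper748, for Palfy's theorem)
-/

set_option autoImplicit false

namespace Cfsg.Agent.H748.Palfy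

open Cfsg Cfsg.Agent.Characters.Core Cfsg.Agent.OddOrderCharacters.IndRes
  Cfsg.Agent.OddOrderCharacters.NormalInduced Cfsg.Agent.OddOrderCharacters.PF9.CliffGen
  Cfsg.Agent.H681.DegBasic

universe u

/-- Sylow subgroups of a subgroup of index prime to `p`, with a unique Sylow `p`-subgroup -/
theorem unique_sylow {X : Type u} [Group X] [Finite X] {p : ℕ} [hp : Fact p.Prime] (S : Subgroup X) (hidx : ¬ p ∣ S.index)
    (hS : ∀ P : Sylow p S, (P : Subgroup S).Normal ∧ ∀ a ∈ (P : Subgroup S), ∀ b ∈ (P : Subgroup S), a * b = b * a) :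
    ∃ A : Sylow p X, IsMulCommutative ↥(A : Subgroup X) ∧ (A : Subgroup X) ≤ S ∧
      ∀ B : Sylow p X, (B : Subgroup X) ≤ S → B = A := by
  let Q : Sylow p S := default
  have hQ := hS Q
  have hcard : Nat.card ((Q : Subgroup S).map S.subtype) = p ^ (Nat.card X).factorization p := by
    rw [Subgroup.card_map_of_injective S.subtype_injective, Q.card_eq_multiplicity]
    have h1 : (Nat.card X).factorization p = (Nat.card S).factorization p := by
      rw [← S.card_mul_index, Nat.factorization_mul Nat.card_pos.ne' S.index_ne_zero_of_finite, Finsupp.add_apply,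
        Nat.factorization_eq_zero_of_not_dvd hidx, add_zero]
    rw [h1]
  let A : Sylow p X := Sylow.ofCard _ hcard
  have hA : (A : Subgroup X) = (Q : Subgroup S).map S.subtype := Sylow.coe_ofCard _ _
  refine ⟨A, ?_, ?_, ?_⟩
  · constructor
    constructor
    rintro ⟨x, hx⟩ ⟨y, hy⟩
    rw [hA] at hx hy
    obtain ⟨x', hx', rfl⟩ := hx
    obtain ⟨y', hy', rfl⟩ := hy
    apply Subtype.ext
    change S.subtype x' * S.subtype y' = S.subtype y' * S.subtype x'
    rw [← map_mul, hQ.2 x' hx' y' hy', map_mul]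
  · rw [hA]
    exact Subgroup.map_subtype_le _
  · intro B hB
    have := Sylow.unique_of_normal Q hQ.1
    have h1 : B.subtype hB = Q := Subsingleton.elim _ _
    apply Sylow.ext
    rw [hA, ← h1, Sylow.coe_subtype, Subgroup.subgroupOf_map_subtype]
    exact (inf_eq_left.2 hB).symm

section compl

variable {G : Type u} [Group G]

theorem uniq_of_degrees [Finite G] (hsolv : Group.IsSolvable G) {S H : Subgroup G} (hSH : S ≤ H) {p : ℕ}
    [hp : Fact p.Prime] (h : ∀ b ∈ charDegrees ↥S, ¬ p ∣ S.relIndex H * b) :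
    ∃ A : Sylow p ↥H, IsMulCommutative ↥(A : Subgroup H) ∧ (∀ x ∈ (A : Subgroup H), (x : G) ∈ S) ∧
      ∀ B : Sylow p ↥H, (∀ x ∈ (B : Subgroup H), (x : G) ∈ S) → B = A := by
  have hidx : ¬ p ∣ (S.subgroupOf H).index := by
    have := h 1 one_mem
    rwa [mul_one] at this
  have h1 : ∀ d ∈ charDegrees ↥(S.subgroupOf H), ¬ p ∣ d := by
    intro d hd hpd
    have hd' : d ∈ charDegrees ↥S :=
      charDegrees_comp (Subgroup.subgroupOfEquivOfLe hSH).symm.toMonoidHom
        (Subgroup.subgroupOfEquivOfLe hSH).symm.surjective hd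
    exact h d hd' (dvd_mul_of_dvd_right hpd _)
  have := hsolv
  obtain ⟨A, hA, hA1, hA2⟩ := unique_sylow (S.subgroupOf H) hidx (fun P =>
    ito_michler inferInstance h1 P)
  refine ⟨A, hA, fun x hx => Subgroup.mem_subgroupOf.1 (hA1 hx), fun B hB => hA2 B fun x hx => ?_⟩
  exact Subgroup.mem_subgroupOf.2 (hB x hx)

/-- the action on linear characters -/
@[reducible] def linAct (N H : Subgroup G) [N.Normal] : MulDistribMulAction ↥H (↥N →* ℂˣ) where
  smul h l := l.comp (MulAut.conjNormal (h : G)⁻¹ : MulAut N).toMonoidHom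
  one_smul l := by
    ext n
    change ((l (MulAut.conjNormal ((1 : H) : G)⁻¹ n) : ℂˣ) : ℂ) = _
    rw [OneMemClass.coe_one, inv_one, map_one]
    rfl
  mul_smul g h l := by
    ext n
    change ((l (MulAut.conjNormal ((g * h : H) : G)⁻¹ n) : ℂˣ) : ℂ) =
      ((l (MulAut.conjNormal (h : G)⁻¹ (MulAut.conjNormal (g : G)⁻¹ n)) : ℂˣ) : ℂ)
    rw [Subgroup.coe_mul, mul_inv_rev, map_mul]
    rfl
  smul_mul g l l' := by
    ext n
    rfl
  smul_one g := by
    ext n
    rfl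

theorem linAct_apply (N H : Subgroup G) [hN : N.Normal] (h : H) (l : ↥N →* ℂˣ) (n : N) :
    letI := linAct N H
    (h • l) n = l ⟨(h : G)⁻¹ * n * (h : G), by simpa using hN.conj_mem n n.2 (h : G)⁻¹⟩ := by
  change l (MulAut.conjNormal (h : G)⁻¹ n) = _
  congr 1
  apply Subtype.ext
  rw [MulAut.conjNormal_apply]
  change _ = (h : G)⁻¹ * n * h
  rw [inv_inv]

theorem smul_eq_iff (N H : Subgroup G) [hN : N.Normal] (h : H) (l : ↥N →* ℂˣ) :
    letI := linAct N H
    h • l = l ↔ (h : G) ∈ stab N H (fun n => (l n : ℂ)) := by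
  rw [mem_stab]
  constructor
  · intro h1
    refine ⟨h.2, fun n => ?_⟩
    have h2 : (letI := linAct N H; h • l) ⟨h * n * (h : G)⁻¹, hN.conj_mem n n.2 h⟩ = _ :=
      linAct_apply N H h l ⟨h * n * (h : G)⁻¹, hN.conj_mem n n.2 h⟩
    rw [h1] at h2
    rw [h2]
    congr 2
    apply Subtype.ext
    change (h : G)⁻¹ * (h * n * (h : G)⁻¹) * h = n
    group
  · rintro ⟨-, h1⟩
    ext n
    have h2 := linAct_apply N H h l n
    rw [h2]
    have h3 := h1 ⟨(h : G)⁻¹ * n * (h : G), by simpa using hN.conj_mem n n.2 (h : G)⁻¹⟩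
    rw [← h3]
    congr 2
    apply Subtype.ext
    change (h : G) * ((h : G)⁻¹ * n * h) * (h : G)⁻¹ = n
    group

/-- translation of `UniqueSylow` -/
theorem uniqueSylow_of [Finite G] (hsolv : Group.IsSolvable G) (N H : Subgroup G) [hN : N.Normal] {p : ℕ}
    [hp : Fact p.Prime] (h : ∀ l : ↥N →* ℂˣ, l ≠ 1 → ∀ b ∈ charDegrees ↥(stab N H (fun n => (l n : ℂ))),
      ¬ p ∣ (stab N H (fun n => (l n : ℂ))).relIndex H * b) :
    letI := linAct N H
    Cfsg.Agent.H273.Palfy.UniqueSylow p ↥H (↥N →* ℂˣ) := by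
  intro l hl
  obtain ⟨A, h1, h2, h3⟩ := uniq_of_degrees hsolv (stab_le N H (fun n => (l n : ℂ))) (h l hl)
  exact ⟨A, h1, fun x hx => (smul_eq_iff N H x l).2 (h2 x hx), fun B hB => h3 B fun x hx =>
    (smul_eq_iff N H x l).1 (hB x hx)⟩

/-- separating linear characters -/
theorem eq_one_of_lin {N : Subgroup G} [Finite G] (hN : ∀ x ∈ N, ∀ y ∈ N, x * y = y * x) (n : N)
    (h : ∀ l : ↥N →* ℂˣ, l n = 1) : n = 1 := by
  let _ : CommGroup N := { (inferInstance : Group N) with mul_comm := fun a b => Subtype.ext (hN a a.2 b b.2) }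
  by_contra hne
  obtain ⟨φ, hφ⟩ := CommGroup.exists_apply_ne_one_of_hasEnoughRootsOfUnity N ℂ hne
  exact hφ (h φ)

theorem card_lin {N : Subgroup G} [Finite G] (hN : ∀ x ∈ N, ∀ y ∈ N, x * y = y * x) :
    Nat.card (↥N →* ℂˣ) = Nat.card N := by
  let _ : CommGroup N := { (inferInstance : Group N) with mul_comm := fun a b => Subtype.ext (hN a a.2 b b.2) }
  exact CommGroup.card_monoidHom_of_hasEnoughRootsOfUnity N ℂ

/-- acting trivially on the linear characters -/
theorem comm_of_lin {N H : Subgroup G} [hNn : N.Normal] [Finite G] (hN : ∀ x ∈ N, ∀ y ∈ N, x * y = y * x) (h : G)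
    (hl : ∀ l : ↥N →* ℂˣ, ∀ n : N, l ⟨h * n * h⁻¹, hNn.conj_mem n n.2 h⟩ = l n) : ∀ n ∈ N, h * n = n * h := by
  intro n hn
  have h1 : (⟨h * n * h⁻¹, hNn.conj_mem n hn h⟩ : N) * (⟨n, hn⟩ : N)⁻¹ = 1 := by
    apply eq_one_of_lin hN
    intro l
    rw [map_mul, map_inv, hl l ⟨n, hn⟩, mul_inv_cancel]
  have h2 := congrArg Subtype.val h1
  change h * n * h⁻¹ * n⁻¹ = 1 at h2
  have h3 : h * n = (h * n * h⁻¹ * n⁻¹) * (n * h) := by group
  rw [h3, h2, one_mul]

/-- the action on the linear characters of a minimal normal subgroup is irreducible. -/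
theorem lin_irr [Finite G] {N H : Subgroup G} [hNn : N.Normal] (hNH : N ⊔ H = ⊤ ∨ ∀ x : G, ∃ h ∈ H, ∀ n ∈ N, x * n * x⁻¹ = h * n * h⁻¹)
    (hN : ∀ x ∈ N, ∀ y ∈ N, x * y = y * x)
    (hmin : ∀ K : Subgroup G, K.Normal → K ≤ N → K = ⊥ ∨ K = N) :
    letI := linAct N H
    ∀ W : Subgroup (↥N →* ℂˣ), (∀ h : H, ∀ w ∈ W, h • w ∈ W) → W = ⊥ ∨ W = ⊤ := by
  intro W hW
  have hconj : ∀ x : G, ∃ h ∈ H, ∀ n ∈ N, x * n * x⁻¹ = h * n * h⁻¹ := by
    rcases hNH with h | h
    · intro x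
      have hx : x ∈ H ⊔ N := by rw [sup_comm, h]; trivial
      obtain ⟨b, hb, a, ha, rfl⟩ := Subgroup.mem_sup_of_normal_right.1 hx
      refine ⟨b, hb, fun n hn => ?_⟩
      have : a * n = n * a := hN a ha n hn
      calc b * a * n * (b * a)⁻¹ = b * (a * n) * a⁻¹ * b⁻¹ := by group
        _ = b * n * b⁻¹ := by rw [this]; group
    · exact h
  let K : Subgroup G :=
    { carrier := {x | ∃ hx : x ∈ N, ∀ w ∈ W, w ⟨x, hx⟩ = 1}
      one_mem' := ⟨N.one_mem, fun w _ => map_one w⟩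
      mul_mem' := by
        rintro x y ⟨hx, hx'⟩ ⟨hy, hy'⟩
        refine ⟨N.mul_mem hx hy, fun w hw => ?_⟩
        have : (⟨x * y, N.mul_mem hx hy⟩ : N) = ⟨x, hx⟩ * ⟨y, hy⟩ := rfl
        rw [this, map_mul, hx' w hw, hy' w hw, one_mul]
      inv_mem' := by
        rintro x ⟨hx, hx'⟩
        refine ⟨N.inv_mem hx, fun w hw => ?_⟩
        have : (⟨x⁻¹, N.inv_mem hx⟩ : N) = ⟨x, hx⟩⁻¹ := rfl
        rw [this, map_inv, hx' w hw, inv_one] }
  have hKn : K.Normal := by
    constructor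
    rintro x ⟨hx, hx'⟩ g
    obtain ⟨h, hh, hgh⟩ := hconj g
    have hmem : g * x * g⁻¹ ∈ N := hNn.conj_mem x hx g
    refine ⟨hmem, fun w hw => ?_⟩
    have h1 := hx' _ (hW ⟨h, hh⟩⁻¹ w hw)
    have h2 := linAct_apply N H (⟨h, hh⟩⁻¹ : H) w ⟨x, hx⟩
    rw [h1] at h2
    rw [h2]
    congr 1
    apply Subtype.ext
    change g * x * g⁻¹ = (h⁻¹)⁻¹ * x * h⁻¹
    rw [hgh x hx, inv_inv]
  rcases hmin K hKn (fun x hx => hx.1) with h | h
  · right
    -- `N` embeds in the dual of `W`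
    have : Finite (↥N →* ℂˣ) := by
      let _ : CommGroup N := { (inferInstance : Group N) with mul_comm := fun a b => Subtype.ext (hN a a.2 b b.2) }
      exact Nat.finite_of_card_ne_zero (by rw [card_lin hN]; exact Nat.card_pos.ne')
    let f : N →* (↥W →* ℂˣ) :=
      { toFun := fun n =>
          { toFun := fun w => (w : ↥N →* ℂˣ) n
            map_one' := rfl
            map_mul' := fun _ _ => rfl }
        map_one' := by
          ext w
          change ((w : ↥N →* ℂˣ) 1 : ℂˣ) = (1 : ℂ)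
          rw [map_one]
          rfl
        map_mul' := fun x y => by
          ext w
          change (((w : ↥N →* ℂˣ) (x * y) : ℂˣ) : ℂ) = (((w : ↥N →* ℂˣ) x * (w : ↥N →* ℂˣ) y : ℂˣ) : ℂ)
          rw [map_mul] }
    have hf : Function.Injective f := by
      rw [injective_iff_map_eq_one]
      intro n hn
      have h1 : (n : G) ∈ K := ⟨n.2, fun w hw => by
        have := DFunLike.congr_fun hn ⟨w, hw⟩
        exact this⟩
      rw [h, Subgroup.mem_bot] at h1
      exact Subtype.ext h1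
    have hfin : Finite (↥W →* ℂˣ) := by
      refine Nat.finite_of_card_ne_zero ?_
      rw [CommGroup.card_monoidHom_of_hasEnoughRootsOfUnity]
      exact Nat.card_pos.ne'
    have h1 := Nat.card_le_card_of_injective f hf
    rw [CommGroup.card_monoidHom_of_hasEnoughRootsOfUnity W ℂ] at h1
    apply Subgroup.eq_top_of_le_card
    rw [card_lin hN]
    exact h1
  · left
    rw [eq_bot_iff]
    intro w hw
    rw [Subgroup.mem_bot]
    ext n
    have h1 : (n : G) ∈ K := by rw [h]; exact n.2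
    obtain ⟨hx, hx'⟩ := h1
    rw [MonoidHom.one_apply, ← hx' w hw]

end compl

end Cfsg.Agent.H748.Palfy
end

-- part: H748/PalfyA
section
/-!
# Palfy's three primes theorem: the case of a minimal normal `t'`-subgroup (helper748)
-/

set_option autoImplicit false

namespace Cfsg.Agent.H748.Palfy

open Cfsg Cfsg.Agent.Characters.Core Cfsg.Agent.OddOrderCharacters.IndRes
  Cfsg.Agent.OddOrderCharacters.NormalInduced Cfsg.Agent.OddOrderCharacters.PF9.CliffGen
  Cfsg.Agent.H681.DegBasic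

universe u

/-- a solvable group with degrees divisible by `t`, `a`, `b`, pairwise not adjacent -/
structure Ctx (G : Type u) [Group G] (t a b : ℕ) : Prop where
  solv : Group.IsSolvable G
  dt : ∃ d ∈ charDegrees G, t ∣ d
  da : ∃ d ∈ charDegrees G, a ∣ d
  db : ∃ d ∈ charDegrees G, b ∣ d
  ta : ∀ d ∈ charDegrees G, t ∣ d → ¬ a ∣ d
  tb : ∀ d ∈ charDegrees G, t ∣ d → ¬ b ∣ d
  ab : ∀ d ∈ charDegrees G, a ∣ d → ¬ b ∣ d

theorem Ctx.swap {G : Type u} [Group G] {t a b : ℕ} (c : Ctx G t a b) : Ctx G t b a :=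
  ⟨c.solv, c.dt, c.db, c.da, c.tb, c.ta, fun d hd hb ha => c.ab d hd ha hb⟩

section

variable {G : Type u} [Group G] [Finite G]

/-- Itô's theorem -/
theorem dvd_index {M : Subgroup G} (hMn : M.Normal) (hM : ∀ x ∈ M, ∀ y ∈ M, x * y = y * x) {d : ℕ}
    (hd : d ∈ charDegrees G) : d ∣ M.index := by
  obtain ⟨χ, ⟨m, ρ, hρ, rfl⟩, h⟩ := mem_charDegrees.1 hd
  rw [Representation.char_one] at h
  have h' : Module.finrank ℂ (Fin m → ℂ) = d := by exact_mod_cast h
  rw [← h']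
  exact S0169.result ρ M hM

theorem false_of_abelian {M : Subgroup G} (hMn : M.Normal) (hM : ∀ x ∈ M, ∀ y ∈ M, x * y = y * x) {p : ℕ}
    (hp : ¬ p ∣ M.index) (hd : ∃ d ∈ charDegrees G, p ∣ d) : False := by
  obtain ⟨d, hd, hpd⟩ := hd
  exact hp (hpd.trans (dvd_index hMn hM hd))

theorem false_of_sylow {p : ℕ} [Fact p.Prime] (P : Sylow p G) (hPn : (P : Subgroup G).Normal)
    (hP : ∀ x ∈ (P : Subgroup G), ∀ y ∈ (P : Subgroup G), x * y = y * x)
    (hd : ∃ d ∈ charDegrees G, p ∣ d) : False :=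
  false_of_abelian hPn hP P.not_dvd_index hd

/-- a normal abelian Sylow subgroup of the complement which centralises the abelian normal subgroup -/
theorem false_of_central {N H : Subgroup G} [hNn : N.Normal] (hN : ∀ x ∈ N, ∀ y ∈ N, x * y = y * x)
    (hNH : N ⊓ H = ⊥) (hNH' : N ⊔ H = ⊤) {p : ℕ} [hp : Fact p.Prime] (A : Sylow p ↥H)
    (hAn : (A : Subgroup H).Normal) (hAc : IsMulCommutative ↥(A : Subgroup H))
    (hAN : ∀ x ∈ (A : Subgroup H), ∀ n ∈ N, (x : G) * n = n * x)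
    (hd : ∃ d ∈ charDegrees G, p ∣ d) : False := by
  let B : Subgroup G := (A : Subgroup H).map H.subtype
  have hBH : B ≤ H := Subgroup.map_subtype_le _
  have hmem : ∀ x ∈ B, ∃ hx : x ∈ H, (⟨x, hx⟩ : H) ∈ (A : Subgroup H) := by
    rintro x ⟨y, hy, rfl⟩
    exact ⟨y.2, hy⟩
  have hBN : ∀ x ∈ B, ∀ n ∈ N, x * n = n * x := by
    intro x hx n hn
    obtain ⟨h1, h2⟩ := hmem x hx
    exact hAN _ h2 n hn
  have hBc : ∀ x ∈ B, ∀ y ∈ B, x * y = y * x := by
    intro x hx y hy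
    obtain ⟨h1, h2⟩ := hmem x hx
    obtain ⟨h3, h4⟩ := hmem y hy
    have := hAc.is_comm.comm (⟨⟨x, h1⟩, h2⟩ : (A : Subgroup H)) ⟨⟨y, h3⟩, h4⟩
    exact congrArg (fun z : (A : Subgroup H) => ((z : H) : G)) this
  have hBn : B.Normal := by
    constructor
    intro x hx g
    have hg : g ∈ H ⊔ N := by rw [sup_comm, hNH']; trivial
    obtain ⟨h, hh, n, hn, rfl⟩ := Subgroup.mem_sup_of_normal_right.1 hg
    have h1 : h * n * x * (h * n)⁻¹ = h * x * h⁻¹ := by
      have : n * x = x * n := (hBN x hx n hn).symm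
      calc h * n * x * (h * n)⁻¹ = h * (n * x) * n⁻¹ * h⁻¹ := by group
        _ = h * x * h⁻¹ := by rw [this]; group
    rw [h1]
    obtain ⟨h2, h3⟩ := hmem x hx
    exact ⟨_, hAn.conj_mem _ h3 ⟨h, hh⟩, rfl⟩
  have hMc : ∀ x ∈ N ⊔ B, ∀ y ∈ N ⊔ B, x * y = y * x := by
    intro x hx y hy
    obtain ⟨n, hn, z, hz, rfl⟩ := Subgroup.mem_sup_of_normal_left.1 hx
    obtain ⟨n', hn', z', hz', rfl⟩ := Subgroup.mem_sup_of_normal_left.1 hy
    have e1 : Commute n n' := hN n hn n' hn'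
    have e2 : Commute z z' := hBc z hz z' hz'
    have e3 : Commute z n' := hBN z hz n' hn'
    have e4 : Commute n z' := (hBN z' hz' n hn).symm
    exact ((e1.mul_left e3).mul_right (e4.mul_left e2)).eq
  have hMn : (N ⊔ B).Normal := Subgroup.sup_normal N B
  refine false_of_abelian hMn hMc (p := p) ?_ hd
  rw [index_eq (M := N) hNH hNH' le_sup_left]
  intro hdvd
  have h1 : ((N ⊔ B) ⊓ H).relIndex H ∣ B.relIndex H :=
    Subgroup.relIndex_dvd_of_le_left H (le_inf le_sup_right hBH)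
  have h2 : B.relIndex H = (A : Subgroup H).index := by
    change (B.subgroupOf H).index = _
    rw [show B.subgroupOf H = (A : Subgroup H) from Subgroup.comap_map_eq_self_of_injective H.subtype_injective _]
  rw [h2] at h1
  exact A.not_dvd_index (hdvd.trans h1)

/-- if the stabilisers of the nonprincipal linear characters of `N` contain exactly one Sylow `p`-subgroup of `H` and
all Sylow `p`-subgroups of `H` act trivially then the Sylow `p`-subgroup is normal -/
theorem normal_of_trivial {N H : Subgroup G} [hNn : N.Normal] (hN : ∀ x ∈ N, ∀ y ∈ N, x * y = y * x)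
    (hN1 : N ≠ ⊥) {p : ℕ} [Fact p.Prime]
    (hu : letI := linAct N H
      Cfsg.Agent.H273.Palfy.UniqueSylow p ↥H (↥N →* ℂˣ))
    (htr : letI := linAct N H
      ¬ ∃ A : Sylow p H, ∃ h ∈ (A : Subgroup H), ∃ v : ↥N →* ℂˣ, h • v ≠ v) (A : Sylow p ↥H) :
    (A : Subgroup H).Normal ∧ IsMulCommutative ↥(A : Subgroup H) ∧
      ∀ x ∈ (A : Subgroup H), ∀ n ∈ N, (x : G) * n = n * x := by
  let _ := linAct N H
  push Not at htr
  obtain ⟨l, hl⟩ : ∃ l : ↥N →* ℂˣ, l ≠ 1 := by
    by_contra hcon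
    push Not at hcon
    apply hN1
    rw [eq_bot_iff]
    intro n hn
    have := eq_one_of_lin hN ⟨n, hn⟩ (fun l => by rw [hcon l]; rfl)
    exact congrArg Subtype.val this
  obtain ⟨A', h1, h2, h3⟩ := hu l hl
  have hA : ∀ B : Sylow p H, B = A' := fun B => h3 B fun h hh => htr B h hh l
  have hAA : A = A' := hA A
  refine ⟨?_, hAA ▸ h1, ?_⟩
  · rw [← Subgroup.normalizer_eq_top_iff, Sylow.coe_coe, ← Sylow.stabilizer_eq_normalizer, eq_top_iff]
    intro g _
    rw [MulAction.mem_stabilizer_iff, hA (g • A), hAA]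
  · intro x hx n hn
    refine comm_of_lin (H := H) hN (x : G) (fun l n => ?_) n hn
    have h4 := (smul_eq_iff N H x l).1 (htr A x hx l)
    have h5 := (mem_stab.1 h4).2 n
    exact Units.ext h5

/-- the case of a minimal normal subgroup of order prime to `t` -/
theorem caseA (hKP : Cfsg.Agent.H273.Palfy.KP.{u, u}) {t a b : ℕ} [ht : Fact t.Prime] [ha : Fact a.Prime] [hb : Fact b.Prime]
    (hab : a ≠ b) (c : Ctx G t a b) (N : Subgroup G) [hNn : N.Normal]
    (hN : ∀ x ∈ N, ∀ y ∈ N, x * y = y * x) (hN1 : N ≠ ⊥) (hmin : ∀ K : Subgroup G, K.Normal → K ≤ N → K = ⊥ ∨ K = N)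
    {ℓ : ℕ} [hℓ : Fact ℓ.Prime] (hNℓ : ∀ x ∈ N, x ^ ℓ = 1) (htN : ¬ t ∣ Nat.card N)
    (hq : ∀ d ∈ charDegrees (G ⧸ N), ¬ t ∣ d) : False := by
  classical
  have hsolv := c.solv
  let P : Sylow t G := default
  have hQ := ito_michler (X := G ⧸ N) inferInstance hq (P.mapSurjective (QuotientGroup.mk'_surjective N))
  have hQn : ((P : Subgroup G).map (QuotientGroup.mk' N)).Normal := hQ.1
  have hPNn : ((P : Subgroup G) ⊔ N).Normal := by
    have := hQn.comap (QuotientGroup.mk' N)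
    rwa [Subgroup.comap_map_eq, QuotientGroup.ker_mk'] at this
  have hPcN : ∀ x ∈ (P : Subgroup G), ∀ y ∈ (P : Subgroup G), x * y * x⁻¹ * y⁻¹ ∈ N := by
    intro x hx y hy
    have h1 := hQ.2 (QuotientGroup.mk' N x) ⟨x, hx, rfl⟩ (QuotientGroup.mk' N y) ⟨y, hy, rfl⟩
    rw [← QuotientGroup.ker_mk' N, MonoidHom.mem_ker]
    rw [map_mul, map_mul, map_mul, map_inv, map_inv, h1]
    group
  have hPN : N ⊓ (P : Subgroup G) = ⊥ := by
    apply disjoint_iff.1
    apply Subgroup.disjoint_of_coprime_natCard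
    obtain ⟨n, hn⟩ := IsPGroup.iff_card.1 P.isPGroup'
    have h3 : Nat.card (P : Subgroup G) = t ^ n := hn
    rw [h3]
    exact ((Nat.Prime.coprime_iff_not_dvd ht.out).2 htN).symm.pow_right n
  have hPc : ∀ x ∈ (P : Subgroup G), ∀ y ∈ (P : Subgroup G), x * y = y * x := by
    intro x hx y hy
    have h1 : x * y * x⁻¹ * y⁻¹ ∈ N ⊓ (P : Subgroup G) :=
      Subgroup.mem_inf.2 ⟨hPcN x hx y hy, (P : Subgroup G).mul_mem ((P : Subgroup G).mul_mem
        ((P : Subgroup G).mul_mem hx hy) ((P : Subgroup G).inv_mem hx)) ((P : Subgroup G).inv_mem hy)⟩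
    rw [hPN, Subgroup.mem_bot] at h1
    have h2 : x * y = (x * y * x⁻¹ * y⁻¹) * (y * x) := by group
    rw [h2, h1, one_mul]
  set H : Subgroup G := Subgroup.normalizer ((P : Subgroup G) : Set G) with hH
  have hPH : (P : Subgroup G) ≤ H := Subgroup.le_normalizer
  have hNH' : N ⊔ H = ⊤ := by
    have h1 := Sylow.normalizer_sup_eq_top' (N := (P : Subgroup G) ⊔ N) P le_sup_left
    rw [← sup_assoc, sup_eq_left.2 (show (P : Subgroup G) ≤ Subgroup.normalizer (P : Set G) from hPH)] at h1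
    rw [sup_comm]
    exact h1
  -- the centralizer of `P` in `N`
  have hconjH : ∀ h ∈ H, ∀ x ∈ (P : Subgroup G), h * x * h⁻¹ ∈ (P : Subgroup G) := by
    intro h hh x hx
    exact (Subgroup.mem_normalizer_iff.1 hh x).1 hx
  have hcomP : ∀ h ∈ H, ∀ n ∈ N, h * n * h⁻¹ ∈ N := fun h _ n hn => hNn.conj_mem n hn h
  have hCn : (N ⊓ Subgroup.centralizer ((P : Subgroup G) : Set G)).Normal := by
    constructor
    rintro x ⟨hxN, hxC⟩ g
    have hg : g ∈ H ⊔ N := by rw [sup_comm, hNH']; trivial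
    obtain ⟨h, hh, n, hn, rfl⟩ := Subgroup.mem_sup_of_normal_right.1 hg
    have h1 : h * n * x * (h * n)⁻¹ = h * x * h⁻¹ := by
      have : n * x = x * n := hN n hn x hxN
      calc h * n * x * (h * n)⁻¹ = h * (n * x) * n⁻¹ * h⁻¹ := by group
        _ = h * x * h⁻¹ := by rw [this]; group
    rw [h1]
    refine Subgroup.mem_inf.2 ⟨hNn.conj_mem x hxN h, ?_⟩
    rw [Subgroup.mem_centralizer_iff]
    intro y hy
    have hy' : h⁻¹ * y * h ∈ (P : Subgroup G) := by
      have := hconjH h⁻¹ (inv_mem hh) y hy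
      rwa [inv_inv] at this
    have h2 := Subgroup.mem_centralizer_iff.1 hxC _ hy'
    calc y * (h * x * h⁻¹) = h * ((h⁻¹ * y * h) * x) * h⁻¹ := by group
      _ = h * (x * (h⁻¹ * y * h)) * h⁻¹ := by rw [h2]
      _ = h * x * h⁻¹ * y := by group
  have hCbot : N ⊓ Subgroup.centralizer ((P : Subgroup G) : Set G) = ⊥ := by
    rcases hmin _ hCn inf_le_left with h | h
    · exact h
    · exfalso
      have hNC : N ≤ Subgroup.centralizer ((P : Subgroup G) : Set G) := inf_eq_left.1 h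
      have hNleH : N ≤ H := hNC.trans (Subgroup.centralizer_le_normalizer _)
      have hHtop : H = ⊤ := by rw [← hNH', sup_eq_right.2 hNleH]
      have hPn : (P : Subgroup G).Normal := Subgroup.normalizer_eq_top_iff.1 hHtop
      exact false_of_sylow P hPn hPc c.dt
  have hNH : N ⊓ H = ⊥ := by
    rw [eq_bot_iff, ← hCbot]
    rintro x ⟨hxN, hxH⟩
    refine Subgroup.mem_inf.2 ⟨hxN, ?_⟩
    rw [Subgroup.mem_centralizer_iff]
    intro y hy
    have h1 : x * y * x⁻¹ * y⁻¹ ∈ N ⊓ (P : Subgroup G) := by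
      refine Subgroup.mem_inf.2 ⟨?_, (P : Subgroup G).mul_mem (hconjH x hxH y hy) ((P : Subgroup G).inv_mem hy)⟩
      have : x * y * x⁻¹ * y⁻¹ = x * (y * x⁻¹ * y⁻¹) := by group
      rw [this]
      exact mul_mem hxN (hNn.conj_mem _ (inv_mem hxN) y)
    rw [hPN, Subgroup.mem_bot] at h1
    have h2 : x * y = (x * y * x⁻¹ * y⁻¹) * (y * x) := by group
    rw [h2, h1, one_mul]
  -- `[N, P] = N`
  have hcomm : ∀ l : ↥N →* ℂˣ, (∀ x ∈ (P : Subgroup G), ∀ n : N, l ⟨x * n * x⁻¹, hNn.conj_mem n n.2 x⟩ = l n) → l = 1 := by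
    intro l hl
    -- the kernel-like subgroup
    let K : Subgroup G := Subgroup.closure {y | ∃ x ∈ (P : Subgroup G), ∃ n ∈ N, y = x * n * x⁻¹ * n⁻¹}
    have hKN : K ≤ N := by
      rw [Subgroup.closure_le]
      rintro y ⟨x, hx, n, hn, rfl⟩
      exact mul_mem (hNn.conj_mem n hn x) (inv_mem hn)
    have hKn : K.Normal := by
      constructor
      intro y hy g
      have hg : g ∈ H ⊔ N := by rw [sup_comm, hNH']; trivial
      obtain ⟨h, hh, n, hn, rfl⟩ := Subgroup.mem_sup_of_normal_right.1 hg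
      have h1 : h * n * y * (h * n)⁻¹ = h * y * h⁻¹ := by
        have : n * y = y * n := hN n hn y (hKN hy)
        calc h * n * y * (h * n)⁻¹ = h * (n * y) * n⁻¹ * h⁻¹ := by group
          _ = h * y * h⁻¹ := by rw [this]; group
      rw [h1]
      have h2 : K ≤ K.comap (MulAut.conj h).toMonoidHom := by
        rw [Subgroup.closure_le]
        rintro z ⟨x, hx, m, hm, rfl⟩
        apply Subgroup.subset_closure
        refine ⟨h * x * h⁻¹, hconjH h hh x hx, h * m * h⁻¹, hNn.conj_mem m hm h, ?_⟩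
        change h * (x * m * x⁻¹ * m⁻¹) * h⁻¹ = _
        group
      exact h2 hy
    rcases hmin K hKn hKN with h | h
    · exfalso
      have hle : N ≤ N ⊓ Subgroup.centralizer ((P : Subgroup G) : Set G) := by
        intro n hn
        refine Subgroup.mem_inf.2 ⟨hn, ?_⟩
        rw [Subgroup.mem_centralizer_iff]
        intro x hx
        have h1 : x * n * x⁻¹ * n⁻¹ ∈ K := Subgroup.subset_closure ⟨x, hx, n, hn, rfl⟩
        rw [h, Subgroup.mem_bot] at h1
        have h2 : x * n = (x * n * x⁻¹ * n⁻¹) * (n * x) := by group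
        rw [h2, h1, one_mul]
      rw [hCbot] at hle
      exact hN1 (le_bot_iff.1 hle)
    · have h3 : K ≤ (l.ker).map N.subtype := by
        rw [Subgroup.closure_le]
        rintro y ⟨x, hx, n, hn, rfl⟩
        refine ⟨⟨x * n * x⁻¹, hNn.conj_mem n hn x⟩ * (⟨n, hn⟩ : N)⁻¹, ?_, rfl⟩
        rw [SetLike.mem_coe, MonoidHom.mem_ker, map_mul, hl x hx ⟨n, hn⟩, map_inv, mul_inv_cancel]
      rw [h] at h3
      ext n
      obtain ⟨m, hm, hmn⟩ := h3 n.2
      have : m = n := Subtype.ext hmn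
      rw [← this, (MonoidHom.mem_ker).1 hm]
      rfl
  -- `t` divides the index of the stabilisers
  have hidx : ∀ l : ↥N →* ℂˣ, l ≠ 1 → t ∣ (stab N H (fun n => (l n : ℂ))).relIndex H := by
    intro l hl
    by_contra hnd
    apply hl
    apply hcomm
    -- the stabiliser contains the normal Sylow subgroup
    have hPHn : ((P.subtype hPH : Sylow t H) : Subgroup H).Normal := by
      rw [Sylow.coe_subtype]
      exact Subgroup.normal_in_normalizer
    have := Sylow.unique_of_normal _ hPHn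
    have hfi : ¬ t ∣ ((stab N H (fun n => (l n : ℂ))).subgroupOf H).index := hnd
    obtain ⟨R, hR⟩ : ∃ R : Sylow t H, (R : Subgroup H) ≤ (stab N H (fun n => (l n : ℂ))).subgroupOf H := by
      let R0 : Sylow t ↥((stab N H (fun n => (l n : ℂ))).subgroupOf H) := default
      have hcard : Nat.card ((R0 : Subgroup _).map ((stab N H (fun n => (l n : ℂ))).subgroupOf H).subtype) =
          t ^ (Nat.card H).factorization t := by
        rw [Subgroup.card_map_of_injective (Subgroup.subtype_injective _), R0.card_eq_multiplicity]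
        have h1 : (Nat.card H).factorization t = (Nat.card ((stab N H (fun n => (l n : ℂ))).subgroupOf H)).factorization t := by
          rw [← ((stab N H (fun n => (l n : ℂ))).subgroupOf H).card_mul_index,
            Nat.factorization_mul Nat.card_pos.ne' (Subgroup.index_ne_zero_of_finite), Finsupp.add_apply,
            Nat.factorization_eq_zero_of_not_dvd hfi, add_zero]
        rw [h1]
      refine ⟨Sylow.ofCard _ hcard, ?_⟩
      rw [Sylow.coe_ofCard]
      exact Subgroup.map_subtype_le _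
    have hRP : R = P.subtype hPH := Subsingleton.elim _ _
    intro x hx n
    have h1 : (⟨x, hPH hx⟩ : H) ∈ (R : Subgroup H) := by
      rw [hRP, Sylow.coe_subtype, Subgroup.mem_subgroupOf]
      exact hx
    have h2 := (mem_stab.1 (Subgroup.mem_subgroupOf.1 (hR h1))).2 n
    exact Units.ext h2
  have huA : ∀ (p : ℕ), (∀ d ∈ charDegrees G, t ∣ d → ¬ p ∣ d) → ∀ l : ↥N →* ℂˣ, l ≠ 1 →
      ∀ b ∈ charDegrees ↥(stab N H (fun n => (l n : ℂ))), ¬ p ∣ (stab N H (fun n => (l n : ℂ))).relIndex H * b := by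
    intro p hp l hl b hb
    exact hp _ (degree_linear hNH hNH' l hb) (dvd_mul_of_dvd_left (hidx l hl) _)
  have uA := uniqueSylow_of hsolv N H (p := a) (huA a c.ta)
  have uB := uniqueSylow_of hsolv N H (p := b) (huA b c.tb)
  have nA : letI := linAct N H
      ∃ A : Sylow a H, ∃ h ∈ (A : Subgroup H), ∃ v : ↥N →* ℂˣ, h • v ≠ v := by
    by_contra hcon
    have h1 := normal_of_trivial hN hN1 uA hcon default
    exact false_of_central hN hNH hNH' default h1.1 h1.2.1 h1.2.2 c.da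
  have nB : letI := linAct N H
      ∃ A : Sylow b H, ∃ h ∈ (A : Subgroup H), ∃ v : ↥N →* ℂˣ, h • v ≠ v := by
    by_contra hcon
    have h1 := normal_of_trivial hN hN1 uB hcon default
    exact false_of_central hN hNH hNH' default h1.1 h1.2.1 h1.2.2 c.db
  have hfin : Finite (↥N →* ℂˣ) := Nat.finite_of_card_ne_zero (by rw [card_lin hN]; exact Nat.card_pos.ne')
  have hnt : Nontrivial (↥N →* ℂˣ) := by
    rw [← Finite.one_lt_card_iff_nontrivial, card_lin hN]
    exact (Subgroup.one_lt_card_iff_ne_bot N).2 hN1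
  let _ := linAct N H
  obtain ⟨χ, hχ⟩ := hKP ↥H (↥N →* ℂˣ) a b ℓ inferInstance hab (fun v => by
      ext n
      have h1 : n ^ ℓ = 1 := Subtype.ext (hNℓ n n.2)
      rw [MonoidHom.pow_apply, ← map_pow, h1, map_one]
      rfl) (lin_irr (Or.inl hNH') hN hmin) uA uB nA nB
  have h1 : charDegree (χ : ↥H → ℂ) ∈ charDegrees G := degree_compl hNH hNH' ⟨χ, rfl⟩
  exact c.ab _ h1 ((dvd_mul_right a b).trans hχ) ((dvd_mul_left b a).trans hχ)

end

end Cfsg.Agent.H748.Palfy
end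

-- part: H748/PalfyB
section
/-!
# Palfy's three primes theorem: the case of a minimal normal `t`-subgroup (helper748)
-/

set_option autoImplicit false

namespace Cfsg.Agent.H748.Palfy

open Cfsg Cfsg.Agent.Characters.Core Cfsg.Agent.OddOrderCharacters.IndRes
  Cfsg.Agent.OddOrderCharacters.NormalInduced Cfsg.Agent.OddOrderCharacters.PF9.CliffGen
  Cfsg.Agent.H681.DegBasic

universe u

/-! ### Linear characters separate elements -/

theorem exists_lin {P : Type u} [Group P] [Finite P] (K : Subgroup P) [hKn : K.Normal]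
    (hK : ∀ x y, x * y * x⁻¹ * y⁻¹ ∈ K) {y : P} (hy : y ∉ K) : ∃ μ : P →* ℂˣ, μ y ≠ 1 ∧ ∀ k ∈ K, μ k = 1 := by
  let _ : CommGroup (P ⧸ K) :=
    { (inferInstance : Group (P ⧸ K)) with
      mul_comm := by
        intro a b
        obtain ⟨a, rfl⟩ := QuotientGroup.mk_surjective a
        obtain ⟨b, rfl⟩ := QuotientGroup.mk_surjective b
        change ((a * b : P) : P ⧸ K) = ((b * a : P) : P ⧸ K)
        rw [QuotientGroup.eq]
        have h1 := hK b⁻¹ a⁻¹
        have h2 : (a * b)⁻¹ * (b * a) = b⁻¹ * a⁻¹ * b⁻¹⁻¹ * a⁻¹⁻¹ := by group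
        rw [h2]
        exact h1 }
  have hne : (y : P ⧸ K) ≠ 1 := fun h => hy ((QuotientGroup.eq_one_iff y).1 h)
  obtain ⟨φ, hφ⟩ := CommGroup.exists_apply_ne_one_of_hasEnoughRootsOfUnity (P ⧸ K) ℂ hne
  refine ⟨φ.comp (QuotientGroup.mk' K), hφ, fun k hk => ?_⟩
  change φ (QuotientGroup.mk' K k) = 1
  rw [show QuotientGroup.mk' K k = 1 from (QuotientGroup.eq_one_iff k).2 hk, map_one]

/-- the number of linear characters trivial on `K` is at least the index -/
theorem index_le_card {P : Type u} [Group P] [Finite P] (K : Subgroup P) [hKn : K.Normal]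
    (hK : ∀ x y, x * y * x⁻¹ * y⁻¹ ∈ K) [Finite (P →* ℂˣ)] :
    K.index ≤ Nat.card {μ : P →* ℂˣ // ∀ k ∈ K, μ k = 1} := by
  let _ : CommGroup (P ⧸ K) :=
    { (inferInstance : Group (P ⧸ K)) with
      mul_comm := by
        intro a b
        obtain ⟨a, rfl⟩ := QuotientGroup.mk_surjective a
        obtain ⟨b, rfl⟩ := QuotientGroup.mk_surjective b
        change ((a * b : P) : P ⧸ K) = ((b * a : P) : P ⧸ K)
        rw [QuotientGroup.eq]
        have h1 := hK b⁻¹ a⁻¹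
        have h2 : (a * b)⁻¹ * (b * a) = b⁻¹ * a⁻¹ * b⁻¹⁻¹ * a⁻¹⁻¹ := by group
        rw [h2]
        exact h1 }
  rw [Subgroup.index_eq_card, ← CommGroup.card_monoidHom_of_hasEnoughRootsOfUnity (P ⧸ K) ℂ]
  refine Nat.card_le_card_of_injective (fun φ : (P ⧸ K) →* ℂˣ => (⟨φ.comp (QuotientGroup.mk' K), fun k hk => by
    change φ (QuotientGroup.mk' K k) = 1
    rw [show QuotientGroup.mk' K k = 1 from (QuotientGroup.eq_one_iff k).2 hk, map_one]⟩ :
      {μ : P →* ℂˣ // ∀ k ∈ K, μ k = 1})) ?_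
  intro φ ψ h
  have h1 := congrArg Subtype.val h
  ext x
  exact congrArg Units.val (DFunLike.congr_fun h1 x)

/-! ### Scalars -/

theorem star_char {P : Type u} [Group P] [Finite P] {θ : P → ℂ} (hθ : IsIrrCharacter P θ) {y y' : P}
    (hy : ∀ x, θ (x * y * x⁻¹ * y⁻¹) = θ 1) (hy' : ∀ x, θ (x * y' * x⁻¹ * y'⁻¹) = θ 1) (heq : θ y' = θ y) :
    θ (y' * y⁻¹) = θ 1 := by
  obtain ⟨n, ρ, hρ, rfl⟩ := hθ
  have hpos := Characters.Central.finrank_pos_of_irr ρ hρ
  have key : ∀ z : P, (∀ x, ρ.character (x * z * x⁻¹ * z⁻¹) = ρ.character 1) →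
      ∃ c : ℂ, ρ z = c • (1 : Module.End ℂ (Fin n → ℂ)) := by
    intro z hz
    apply Characters.Central.exists_smul_of_comm ρ hρ
    intro x
    have h1 := hz x
    rw [Representation.char_one] at h1
    have h2 := (Characters.Values.character_eq_finrank_iff ρ _).1 h1
    have h3 : x * z = (x * z * x⁻¹ * z⁻¹) * (z * x) := by group
    rw [← map_mul, ← map_mul, h3, map_mul ρ (x * z * x⁻¹ * z⁻¹), h2]
    rfl
  obtain ⟨c, hc⟩ := key y hy
  obtain ⟨c', hc'⟩ := key y' hy'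
  have htr : ∀ (z : P) (e : ℂ), ρ z = e • (1 : Module.End ℂ (Fin n → ℂ)) →
      ρ.character z = e * Module.finrank ℂ (Fin n → ℂ) := by
    intro z e he
    change LinearMap.trace ℂ _ (ρ z) = _
    rw [he, map_smul, LinearMap.trace_one, smul_eq_mul]
  have hcc : c' = c := by
    rw [htr _ _ hc, htr _ _ hc'] at heq
    exact mul_right_cancel₀ (by exact_mod_cast hpos.ne') heq
  rw [Representation.char_one]
  apply (Characters.Values.character_eq_finrank_iff ρ _).2
  rw [map_mul, hc', hcc, ← hc, ← map_mul, mul_inv_cancel, map_one]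
  rfl

/-! ### Counting -/

/-- If every element of the `H`-stable set `S` is fixed by exactly one Sylow subgroup, then `|S|` is the number of
Sylow subgroups times the number of elements of `S` fixed by one of them. -/
theorem count {H : Type u} [Group H] [Finite H] {V : Type*} [MulAction H V] [Finite V] {p : ℕ} [Fact p.Prime]
    (S : Set V) (hS : ∀ (h : H), ∀ v ∈ S, h • v ∈ S)
    (hu : ∀ v ∈ S, ∃ A : Sylow p H, (∀ h ∈ (A : Subgroup H), h • v = v) ∧
      ∀ B : Sylow p H, (∀ h ∈ (B : Subgroup H), h • v = v) → B = A) (B : Sylow p H) :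
    Nat.card S = Nat.card (Sylow p H) * Nat.card {v : V // v ∈ S ∧ ∀ h ∈ (B : Subgroup H), h • v = v} := by
  classical
  choose! f hf1 hf2 using hu
  have e1 : S ≃ (Σ A : Sylow p H, {v : V // v ∈ S ∧ ∀ h ∈ (A : Subgroup H), h • v = v}) :=
    { toFun := fun v => ⟨f v, v, v.2, hf1 v v.2⟩
      invFun := fun x => ⟨x.2.1, x.2.2.1⟩
      left_inv := fun v => rfl
      right_inv := by
        rintro ⟨A, v, hv, hA⟩
        have : f v = A := (hf2 v hv A hA).symm
        subst this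
        rfl }
  have e2 : ∀ A : Sylow p H, Nat.card {v : V // v ∈ S ∧ ∀ h ∈ (A : Subgroup H), h • v = v} =
      Nat.card {v : V // v ∈ S ∧ ∀ h ∈ (B : Subgroup H), h • v = v} := by
    intro A
    obtain ⟨g, hg⟩ := MulAction.exists_smul_eq H B A
    refine (Nat.card_congr ?_).symm
    refine
      { toFun := fun v => ⟨g • v.1, hS g _ v.2.1, ?_⟩
        invFun := fun v => ⟨g⁻¹ • v.1, hS g⁻¹ _ v.2.1, ?_⟩
        left_inv := fun v => Subtype.ext (inv_smul_smul g _)
        right_inv := fun v => Subtype.ext (smul_inv_smul g _) }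
    · intro h hh
      rw [← hg] at hh
      have h1 : g⁻¹ * h * g ∈ (B : Subgroup H) := by
        rw [Sylow.coe_subgroup_smul, Subgroup.mem_pointwise_smul_iff_inv_smul_mem] at hh
        have : (MulAut.conj g)⁻¹ • h = g⁻¹ * h * g := by
          rw [← map_inv]
          change g⁻¹ * h * g⁻¹⁻¹ = _
          rw [inv_inv]
        rwa [this] at hh
      have h2 := v.2.2 _ h1
      have h3 : h • g • v.1 = g • ((g⁻¹ * h * g) • v.1) := by
        rw [smul_smul, smul_smul]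
        congr 1
        group
      rw [h3, h2]
    · intro h hh
      have h1 : g * h * g⁻¹ ∈ (A : Subgroup H) := by
        rw [← hg, Sylow.coe_subgroup_smul, Subgroup.mem_pointwise_smul_iff_inv_smul_mem]
        have : (MulAut.conj g)⁻¹ • (g * h * g⁻¹) = h := by
          rw [← map_inv]
          change g⁻¹ * (g * h * g⁻¹) * g⁻¹⁻¹ = _
          group
        rwa [this]
      have h2 := v.2.2 _ h1
      have h3 : h • g⁻¹ • v.1 = g⁻¹ • ((g * h * g⁻¹) • v.1) := by
        rw [smul_smul, smul_smul]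
        congr 1
        group
      rw [h3, h2]
  have : Fintype (Sylow p H) := Fintype.ofFinite _
  rw [Nat.card_congr e1, Nat.card_sigma]
  simp only [e2, Finset.sum_const, Finset.card_univ, smul_eq_mul, Nat.card_eq_fintype_card]

/-- arithmetic: `m` determines the powers -/
theorem pow_eq {t m i j k l : ℕ} (ht : t.Prime) (hm : 2 ≤ m) (hi : 1 ≤ i) (hk : 1 ≤ k)
    (h1 : t ^ i = m * (t ^ j - 1) + 1) (h2 : t ^ k = m * (t ^ l - 1) + 1) : t ^ i = t ^ k := by
  have key : ∀ {i j : ℕ}, 1 ≤ i → t ^ i = m * (t ^ j - 1) + 1 → t ^ j ∣ m - 1 ∧ ¬ t ^ (j + 1) ∣ m - 1 := by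
    intro i j hi h
    have ht2 := ht.two_le
    have hj : 1 ≤ j := by
      rcases Nat.eq_zero_or_pos j with h0 | h0
      · exfalso
        subst h0
        have : t ≤ t ^ i := Nat.le_self_pow (by omega) t
        simp at h
        omega
      · exact h0
    have htj : t ≤ t ^ j := Nat.le_self_pow (by omega) t
    have hij : j < i := by
      by_contra hcon
      have : t ^ i ≤ t ^ j := Nat.pow_le_pow_right (by omega) (by omega)
      have h3 : 2 * (t ^ j - 1) ≤ m * (t ^ j - 1) := Nat.mul_le_mul_right _ hm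
      omega
    obtain ⟨s, hs, rfl⟩ : ∃ s, 1 ≤ s ∧ i = j + s := ⟨i - j, by omega, by omega⟩
    have hm1 : (m : ℤ) - 1 = t ^ j * (m - t ^ s) := by
      have h4 : (t : ℤ) ^ (j + s) = m * (t ^ j - 1) + 1 := by
        have := congrArg (Nat.cast : ℕ → ℤ) h
        push_cast [Nat.one_le_pow j t (by omega)] at this
        exact this
      rw [pow_add] at h4
      linear_combination h4
    have hmc : ((m - 1 : ℕ) : ℤ) = (m : ℤ) - 1 := by
      rw [Nat.cast_sub (by omega)]; rfl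
    have hd1 : t ^ j ∣ m - 1 := by
      have : ((t ^ j : ℕ) : ℤ) ∣ ((m - 1 : ℕ) : ℤ) := by
        rw [hmc, hm1]
        exact ⟨_, by push_cast; rfl⟩
      exact_mod_cast this
    refine ⟨hd1, fun hd2 => ?_⟩
    have h5 : ((t ^ (j + 1) : ℕ) : ℤ) ∣ ((m - 1 : ℕ) : ℤ) := by exact_mod_cast hd2
    rw [hmc, hm1] at h5
    have h6 : (t : ℤ) ∣ (m - t ^ s) := by
      have h7 : (t : ℤ) ^ j * t ∣ t ^ j * (m - t ^ s) := by
        rw [← pow_succ]; exact_mod_cast h5
      exact (mul_dvd_mul_iff_left (pow_ne_zero j (by exact_mod_cast ht.pos.ne'))).1 h7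
    have h8 : (t : ℤ) ∣ m := by
      have := dvd_add h6 (dvd_pow_self (t : ℤ) (by omega : s ≠ 0))
      simpa using this
    have h9 : t ∣ m := by exact_mod_cast h8
    have h10 : t ∣ m - 1 := (dvd_pow_self t (by omega : j ≠ 0)).trans hd1
    have h11 : t ∣ 1 := by
      have := (Nat.dvd_sub h9 h10)
      rwa [show m - (m - 1) = 1 by omega] at this
    exact ht.one_lt.ne' (Nat.dvd_one.1 h11)
  obtain ⟨a1, a2⟩ := key hi h1
  obtain ⟨b1, b2⟩ := key hk h2
  have hjl : j = l := by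
    rcases lt_trichotomy j l with h | h | h
    · exact absurd ((pow_dvd_pow t (by omega : j + 1 ≤ l)).trans b1) a2
    · exact h
    · exact absurd ((pow_dvd_pow t (by omega : l + 1 ≤ j)).trans a1) b2
  subst hjl
  rw [h1, h2]

end Cfsg.Agent.H748.Palfy
end

-- part: H748/PalfyC
section
/-!
# Palfy's three primes theorem: the case of a minimal normal `t`-subgroup, main part (helper748)
-/

set_option autoImplicit false
set_option linter.unusedSectionVars false

namespace Cfsg.Agent.H748.Palfy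

open Cfsg Cfsg.Agent.Characters.Core Cfsg.Agent.OddOrderCharacters.IndRes
  Cfsg.Agent.OddOrderCharacters.NormalInduced Cfsg.Agent.OddOrderCharacters.PF9.CliffGen
  Cfsg.Agent.H681.DegBasic

universe u

section

variable {G : Type u} [Group G] [Finite G]

/-- a normal Sylow subgroup not contained in a subgroup -/
theorem dvd_relIndex {H S : Subgroup G} {p : ℕ} [Fact p.Prime] (A : Sylow p ↥H)
    (hA : (A : Subgroup H).Normal) (h : ¬ ∀ x ∈ (A : Subgroup H), (x : G) ∈ S) : p ∣ S.relIndex H := by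
  by_contra hnd
  apply h
  have := Sylow.unique_of_normal _ hA
  have hfi : ¬ p ∣ (S.subgroupOf H).index := hnd
  obtain ⟨R, hR⟩ : ∃ R : Sylow p H, (R : Subgroup H) ≤ S.subgroupOf H := by
    let R0 : Sylow p ↥(S.subgroupOf H) := default
    have hcard : Nat.card ((R0 : Subgroup _).map (S.subgroupOf H).subtype) =
        p ^ (Nat.card H).factorization p := by
      rw [Subgroup.card_map_of_injective (Subgroup.subtype_injective _), R0.card_eq_multiplicity]
      have h1 : (Nat.card H).factorization p = (Nat.card (S.subgroupOf H)).factorization p := by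
        rw [← (S.subgroupOf H).card_mul_index,
          Nat.factorization_mul Nat.card_pos.ne' (Subgroup.index_ne_zero_of_finite), Finsupp.add_apply,
          Nat.factorization_eq_zero_of_not_dvd hfi, add_zero]
      rw [h1]
    refine ⟨Sylow.ofCard _ hcard, ?_⟩
    rw [Sylow.coe_ofCard]
    exact Subgroup.map_subtype_le _
  have hRA : R = A := Subsingleton.elim _ _
  intro x hx
  rw [← hRA] at hx
  exact Subgroup.mem_subgroupOf.1 (hR hx)

/-- the situation in case B -/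
structure BCtx (t a b : ℕ) (P N H : Subgroup G) [P.Normal] [N.Normal] : Prop where
  c : Ctx G t a b
  hP : IsPGroup t P
  hPH : P ⊓ H = ⊥
  hPH' : P ⊔ H = ⊤
  hcop : (Nat.card P).Coprime (Nat.card H)
  hNP : N ≤ P
  hPcN : ∀ x ∈ P, ∀ y ∈ P, x * y * x⁻¹ * y⁻¹ ∈ N
  hNz : ∀ x ∈ P, ∀ n ∈ N, x * n = n * x
  hN1 : N ≠ ⊥
  hmin : ∀ K : Subgroup G, K.Normal → K ≤ N → K = ⊥ ∨ K = N
  hNt : ∀ x ∈ N, x ^ t = 1
  hna : ∃ x ∈ P, ∃ y ∈ P, x * y ≠ y * x

variable {t a b : ℕ} {P N H : Subgroup G} [hPn : P.Normal] [hNn : N.Normal]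

theorem BCtx.hN (B : BCtx t a b P N H) : ∀ x ∈ N, ∀ y ∈ N, x * y = y * x :=
  fun x hx y hy => B.hNz x (B.hNP hx) y hy

/-- the commutators generate `N`. -/
theorem BCtx.lin_eq_one (B : BCtx t a b P N H) (l : ↥N →* ℂˣ)
    (hl : ∀ x (hx : x ∈ P) y (hy : y ∈ P), l ⟨x * y * x⁻¹ * y⁻¹, B.hPcN x hx y hy⟩ = 1) : l = 1 := by
  let K : Subgroup G := Subgroup.closure {z | ∃ x ∈ P, ∃ y ∈ P, z = x * y * x⁻¹ * y⁻¹}
  have hKN : K ≤ N := by
    rw [Subgroup.closure_le]
    rintro z ⟨x, hx, y, hy, rfl⟩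
    exact B.hPcN x hx y hy
  have hKn : K.Normal := by
    constructor
    intro z hz g
    have h2 : K ≤ K.comap (MulAut.conj g).toMonoidHom := by
      rw [Subgroup.closure_le]
      rintro z ⟨x, hx, m, hm, rfl⟩
      apply Subgroup.subset_closure
      refine ⟨g * x * g⁻¹, hPn.conj_mem x hx g, g * m * g⁻¹, hPn.conj_mem m hm g, ?_⟩
      change g * (x * m * x⁻¹ * m⁻¹) * g⁻¹ = _
      group
    exact h2 hz
  rcases B.hmin K hKn hKN with h | h
  · exfalso
    obtain ⟨x, hx, y, hy, hxy⟩ := B.hna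
    apply hxy
    have h1 : x * y * x⁻¹ * y⁻¹ ∈ K := Subgroup.subset_closure ⟨x, hx, y, hy, rfl⟩
    rw [h, Subgroup.mem_bot] at h1
    have h2 : x * y = (x * y * x⁻¹ * y⁻¹) * (y * x) := by group
    rw [h2, h1, one_mul]
  · have h3 : K ≤ (l.ker).map N.subtype := by
      rw [Subgroup.closure_le]
      rintro z ⟨x, hx, y, hy, rfl⟩
      exact ⟨⟨x * y * x⁻¹ * y⁻¹, B.hPcN x hx y hy⟩, (MonoidHom.mem_ker).2 (hl x hx y hy), rfl⟩
    rw [h] at h3
    ext n
    obtain ⟨m, hm, hmn⟩ := h3 n.2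
    have : m = n := Subtype.ext hmn
    rw [← this, (MonoidHom.mem_ker).1 hm]
    rfl

/-- characters over a nonprincipal character of `N` have degree divisible by `t` -/
theorem BCtx.dvd_degree [ht : Fact t.Prime] (B : BCtx t a b P N H) {l : ↥N →* ℂˣ} (hl : l ≠ 1) {θ : P → ℂ}
    (hθ : IsIrrCharacter P θ) (hθl : ∀ n : N, θ ⟨n, B.hNP n.2⟩ = θ 1 * l n) : t ∣ charDegree θ := by
  rcases H670.PSing.charDegree_pgroup B.hP hθ with h | h
  · exfalso
    obtain ⟨f, hf⟩ : ∃ f : P →* ℂˣ, θ = fun x => (f x : ℂ) := by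
      apply Characters.Linear.exists_hom_of_isIrrCharacter hθ
      rw [Cfsg.Agent.Blocks.Basic.irr_one_eq_charDegree hθ, h, Nat.cast_one]
    apply hl
    apply B.lin_eq_one
    intro x hx y hy
    have h1 := hθl ⟨x * y * x⁻¹ * y⁻¹, B.hPcN x hx y hy⟩
    rw [hf] at h1
    have h2 : f (⟨x * y * x⁻¹ * y⁻¹, B.hNP (B.hPcN x hx y hy)⟩ : P) = 1 := by
      have : (⟨x * y * x⁻¹ * y⁻¹, B.hNP (B.hPcN x hx y hy)⟩ : P) = ⟨x, hx⟩ * ⟨y, hy⟩ * (⟨x, hx⟩ : P)⁻¹ * (⟨y, hy⟩ : P)⁻¹ := rfl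
      rw [this, map_mul, map_mul, map_mul, map_inv, map_inv, mul_comm (f ⟨x, hx⟩)]
      group
    simp only [h2, map_one, Units.val_one, one_mul] at h1
    exact Units.ext h1.symm
  · exact h

/-- over every linear character of `N` there is an irreducible character of `P` with the same stabiliser in `H` -/
theorem BCtx.exists_theta [ht : Fact t.Prime] (B : BCtx t a b P N H) (l : ↥N →* ℂˣ) :
    ∃ θ : P → ℂ, IsIrrCharacter P θ ∧ (∀ n : N, θ ⟨n, B.hNP n.2⟩ = θ 1 * l n) ∧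
      stab P H θ = stab N H (fun n => (l n : ℂ)) := by
  classical
  have := Fintype.ofFinite G
  have := Fintype.ofFinite P
  have := Fintype.ofFinite N
  have hsolv := B.c.solv
  have hcop' : (N.relIndex P).Coprime (Nat.card ↥(stab N H (fun n => (l n : ℂ)))) := by
    have h1 : N.relIndex P ∣ Nat.card P := Subgroup.index_dvd_card (N.subgroupOf P)
    have h2 : Nat.card ↥(stab N H (fun n => (l n : ℂ))) ∣ Nat.card H := Subgroup.card_dvd_of_le (stab_le _ _ _)
    exact (B.hcop.coprime_dvd_left h1).coprime_dvd_right h2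
  have hN' : (N.subgroupOf P).Normal := hNn.subgroupOf P
  obtain ⟨χ, h1, h2⟩ := S4448.result P (stab N H (fun n => (l n : ℂ))) N
    (fun s _ g hg => hPn.conj_mem g hg s) B.hNP (fun s _ n hn => hNn.conj_mem n hn s) hcop'
    inferInstance ⟨fun n => (l n : ℂ), Characters.Linear.isIrrCharacter_hom l⟩ (by
      intro s hs g g' hg
      have h3 := (mem_stab.1 hs).2 g
      change ((l g' : ℂˣ) : ℂ) = ((l g : ℂˣ) : ℂ)
      rw [← h3]
      congr 2
      exact Subtype.ext hg)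
  have hover : ∀ n : N, (χ : P → ℂ) ⟨n, B.hNP n.2⟩ = (χ : P → ℂ) 1 * l n := by
    refine resTo_linear (T := P) (lam := l) ?_ B.hNP χ.2 h1
    intro g hg
    funext n
    rw [conjFn_apply]
    congr 2
    apply Subtype.ext
    change g * n * g⁻¹ = n
    rw [B.hNz g hg n n.2, mul_inv_cancel_right]
  refine ⟨χ, χ.2, hover, le_antisymm ?_ ?_⟩
  · intro g hg
    obtain ⟨hg1, hg2⟩ := mem_stab.1 hg
    refine mem_stab.2 ⟨hg1, fun n => ?_⟩
    have h3 := hg2 ⟨n, B.hNP n.2⟩
    have h4 := hover ⟨g * n * g⁻¹, hNn.conj_mem n n.2 g⟩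
    have h5 : (χ : P → ℂ) 1 * l ⟨g * n * g⁻¹, hNn.conj_mem n n.2 g⟩ = (χ : P → ℂ) 1 * l n := by
      rw [← h4, ← hover]
      exact h3
    exact mul_left_cancel₀ (isIrr_apply_one_ne_zero χ.2) h5
  · intro g hg
    refine mem_stab.2 ⟨stab_le _ _ _ hg, fun x => ?_⟩
    exact h2 g hg x _ rfl

/-- degrees over `θ` -/
theorem BCtx.mem_degrees [Fact t.Prime] (B : BCtx t a b P N H) {θ : P → ℂ} (hθ : IsIrrCharacter P θ) {d' : ℕ}
    (hd' : d' ∈ charDegrees (stab P H θ)) : (stab P H θ).relIndex H * (d' * charDegree θ) ∈ charDegrees G :=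
  degree_coprime B.hPH B.hPH' B.hcop hθ (Cfsg.Agent.Blocks.Basic.irr_one_eq_charDegree hθ) hd'

theorem BCtx.not_dvd [ht : Fact t.Prime] (B : BCtx t a b P N H) {p : ℕ} (hp : ∀ d ∈ charDegrees G, t ∣ d → ¬ p ∣ d)
    (l : ↥N →* ℂˣ) (hl : l ≠ 1) : ∀ d ∈ charDegrees ↥(stab N H (fun n => (l n : ℂ))),
      ¬ p ∣ (stab N H (fun n => (l n : ℂ))).relIndex H * d := by
  intro d hd hpd
  obtain ⟨θ, hθ, hθl, hst⟩ := B.exists_theta l
  rw [← hst] at hd hpd
  have h1 := B.mem_degrees hθ hd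
  have h2 : t ∣ (stab P H θ).relIndex H * (d * charDegree θ) :=
    dvd_mul_of_dvd_right (dvd_mul_of_dvd_right (B.dvd_degree hl hθ hθl) _) _
  refine hp _ h1 h2 ?_
  rw [← mul_assoc]
  exact dvd_mul_of_dvd_left hpd _

/-- the normal Sylow `a`-subgroup `A` of `H` fixes the characters over nonprincipal characters of `N`. -/
theorem BCtx.fix [ht : Fact t.Prime] (B : BCtx t a b P N H) {p : ℕ} [hp' : Fact p.Prime]
    (hp : ∀ d ∈ charDegrees G, t ∣ d → ¬ p ∣ d) (A : Sylow p ↥H)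
    (hA : (A : Subgroup H).Normal) {l : ↥N →* ℂˣ} (hl : l ≠ 1) {θ : P → ℂ}
    (hθ : IsIrrCharacter P θ) (hθl : ∀ n : N, θ ⟨n, B.hNP n.2⟩ = θ 1 * l n) :
    ∀ x ∈ (A : Subgroup H), (x : G) ∈ stab P H θ := by
  by_contra hcon
  have h1 := dvd_relIndex A hA hcon
  exact hp _ (B.mem_degrees hθ one_mem)
    (dvd_mul_of_dvd_right (dvd_mul_of_dvd_right (B.dvd_degree hl hθ hθl) _) _) (dvd_mul_of_dvd_left h1 _)

theorem BCtx.star0 [Fact t.Prime] (B : BCtx t a b P N H) {l : ↥N →* ℂˣ} {θ : P → ℂ}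
    (hθ : IsIrrCharacter P θ) (hθl : ∀ n : N, θ ⟨n, B.hNP n.2⟩ = θ 1 * l n) {α : G} (hα : α ∈ stab P H θ)
    (hαN : ∀ n ∈ N, α * n = n * α) {y : G} (hy : y ∈ P)
    (hly : ∀ x (hx : x ∈ P), l ⟨x * y * x⁻¹ * y⁻¹, B.hPcN x hx y hy⟩ = 1) :
    θ (⟨α * y * α⁻¹ * y⁻¹, P.mul_mem (hPn.conj_mem y hy α) (P.inv_mem hy)⟩ : P) = θ 1 := by
  have h1 : ∀ x : P, θ (x * ⟨y, hy⟩ * x⁻¹ * (⟨y, hy⟩ : P)⁻¹) = θ 1 := by
    intro x
    have h2 := hθl ⟨x * y * (x : G)⁻¹ * y⁻¹, B.hPcN x x.2 y hy⟩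
    rw [hly x x.2, Units.val_one, mul_one] at h2
    rw [← h2]
    rfl
  have hy' : α * y * α⁻¹ ∈ P := hPn.conj_mem y hy α
  have h3 : ∀ x : P, θ (x * ⟨α * y * α⁻¹, hy'⟩ * x⁻¹ * (⟨α * y * α⁻¹, hy'⟩ : P)⁻¹) = θ 1 := by
    intro x
    have hx' : α⁻¹ * x * α ∈ P := by
      have := hPn.conj_mem x x.2 α⁻¹
      rwa [inv_inv] at this
    have h4 : ((x : G) * (α * y * α⁻¹) * (x : G)⁻¹ * (α * y * α⁻¹)⁻¹) =
        (α⁻¹ * x * α) * y * (α⁻¹ * x * α)⁻¹ * y⁻¹ := by
      have h5 := hαN _ (B.hPcN _ hx' y hy)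
      calc ((x : G) * (α * y * α⁻¹) * (x : G)⁻¹ * (α * y * α⁻¹)⁻¹)
          = α * ((α⁻¹ * x * α) * y * (α⁻¹ * x * α)⁻¹ * y⁻¹) * α⁻¹ := by group
        _ = (α⁻¹ * x * α) * y * (α⁻¹ * x * α)⁻¹ * y⁻¹ := by rw [h5, mul_inv_cancel_right]
    have h6 := hθl ⟨_, B.hPcN _ hx' y hy⟩
    rw [hly _ hx', Units.val_one, mul_one] at h6
    rw [← h6]
    congr 1
    exact Subtype.ext h4
  have h7 : θ ⟨α * y * α⁻¹, hy'⟩ = θ ⟨y, hy⟩ := (mem_stab.1 hα).2 ⟨y, hy⟩
  exact star_char hθ h1 h3 h7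

/-- **(*)** -/
theorem BCtx.star [ht : Fact t.Prime] (B : BCtx t a b P N H) {p : ℕ} [hp' : Fact p.Prime]
    (hp : ∀ d ∈ charDegrees G, t ∣ d → ¬ p ∣ d) (A : Sylow p ↥H)
    (hA : (A : Subgroup H).Normal) (hAN : ∀ x ∈ (A : Subgroup H), ∀ n ∈ N, (x : G) * n = n * x)
    {l : ↥N →* ℂˣ} (hl : l ≠ 1) {y : G} (hy : y ∈ P)
    (hly : ∀ x (hx : x ∈ P), l ⟨x * y * x⁻¹ * y⁻¹, B.hPcN x hx y hy⟩ = 1) :
    ∀ α ∈ (A : Subgroup H), (α : G) * y * (α : G)⁻¹ * y⁻¹ ∈ N := by
  intro α hα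
  obtain ⟨θ, hθ, hθl, -⟩ := B.exists_theta l
  by_contra hcon
  set z : P := ⟨(α : G) * y * (α : G)⁻¹ * y⁻¹, P.mul_mem (hPn.conj_mem y hy α) (P.inv_mem hy)⟩ with hz
  have hN' : (N.subgroupOf P).Normal := hNn.subgroupOf P
  obtain ⟨μ, hμ1, hμ2⟩ := exists_lin (N.subgroupOf P)
    (fun x y => Subgroup.mem_subgroupOf.2 (B.hPcN x x.2 y y.2)) (y := z)
    (fun h => hcon (Subgroup.mem_subgroupOf.1 h))
  have e1 := B.star0 hθ hθl (B.fix hp A hA hl hθ hθl α hα) (hAN α hα) hy hly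
  have hθ' : IsIrrCharacter P (fun x => (μ x : ℂ) * θ x) :=
    Cfsg.Agent.OddOrderCharacters.InertiaAbelian.isIrr_mul_hom μ hθ
  have hθl' : ∀ n : N, (fun x => (μ x : ℂ) * θ x) ⟨n, B.hNP n.2⟩ = (fun x => (μ x : ℂ) * θ x) 1 * l n := by
    intro n
    change (μ ⟨n, _⟩ : ℂ) * θ ⟨n, _⟩ = ((μ 1 : ℂˣ) : ℂ) * θ 1 * l n
    rw [hμ2 _ (Subgroup.mem_subgroupOf.2 n.2), map_one, Units.val_one, one_mul, one_mul, hθl]
  have e2 := B.star0 hθ' hθl' (B.fix hp A hA hl hθ' hθl' α hα) (hAN α hα) hy hly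
  change (μ z : ℂ) * θ z = ((μ 1 : ℂˣ) : ℂ) * θ 1 at e2
  change θ z = θ 1 at e1
  rw [e1, map_one, Units.val_one, one_mul] at e2
  apply hμ1
  have h3 : (μ z : ℂ) = 1 := mul_right_cancel₀ (isIrr_apply_one_ne_zero hθ) (by rw [e2, one_mul])
  exact Units.ext h3

end

end Cfsg.Agent.H748.Palfy
end

-- part: H748/PalfyD
section
/-!
# Palfy's three primes theorem: end of case B (helper748)
-/

set_option autoImplicit false
set_option linter.unusedSectionVars false

namespace Cfsg.Agent.H748.Palfy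

open Cfsg Cfsg.Agent.Characters.Core Cfsg.Agent.OddOrderCharacters.IndRes
  Cfsg.Agent.OddOrderCharacters.NormalInduced Cfsg.Agent.OddOrderCharacters.PF9.CliffGen
  Cfsg.Agent.H681.DegBasic
open scoped commutatorElement

universe u

/-- counting fixed points in an invariant subgroup -/
theorem count_group {H : Type u} [Group H] [Finite H] {V : Type*} [CommGroup V] [Finite V] [MulDistribMulAction H V]
    {p t : ℕ} [Fact p.Prime] [Fact t.Prime] (hV : IsPGroup t V) (W : Subgroup V) (hW : ∀ h : H, ∀ w ∈ W, h • w ∈ W)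
    (hu : ∀ w ∈ W, w ≠ 1 → ∃ A : Sylow p H, (∀ h ∈ (A : Subgroup H), h • w = w) ∧
      ∀ B : Sylow p H, (∀ h ∈ (B : Subgroup H), h • w = w) → B = A) (B : Sylow p H) :
    ∃ i j : ℕ, Nat.card W = t ^ i ∧ t ^ i = Nat.card (Sylow p H) * (t ^ j - 1) + 1 := by
  classical
  have hsub : ∀ (U : Subgroup V), Nat.card {v : V // v ∈ U ∧ v ≠ 1} + 1 = Nat.card U := by
    intro U
    have e : {v : V // v ∈ U ∧ v ≠ 1} ≃ {x : U // x ≠ 1} :=
      { toFun := fun v => ⟨⟨v.1, v.2.1⟩, fun h => v.2.2 (congrArg Subtype.val h)⟩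
        invFun := fun x => ⟨x.1.1, x.1.2, fun h => x.2 (Subtype.ext h)⟩
        left_inv := fun v => rfl
        right_inv := fun x => rfl }
    have : Fintype U := Fintype.ofFinite _
    rw [Nat.card_congr e, Nat.card_eq_fintype_card, Nat.card_eq_fintype_card, Fintype.card_subtype_compl,
      Fintype.card_subtype_eq]
    have : 0 < Fintype.card U := Fintype.card_pos
    omega
  let F : Subgroup V :=
    { carrier := {v | v ∈ W ∧ ∀ h ∈ (B : Subgroup H), h • v = v}
      one_mem' := ⟨W.one_mem, fun h _ => smul_one h⟩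
      mul_mem' := by
        rintro x y ⟨hx, hx'⟩ ⟨hy, hy'⟩
        exact ⟨W.mul_mem hx hy, fun h hh => by rw [smul_mul', hx' h hh, hy' h hh]⟩
      inv_mem' := by
        rintro x ⟨hx, hx'⟩
        exact ⟨W.inv_mem hx, fun h hh => by rw [smul_inv', hx' h hh]⟩ }
  obtain ⟨i, hi⟩ := IsPGroup.iff_card.1 (hV.to_subgroup W)
  obtain ⟨j, hj⟩ := IsPGroup.iff_card.1 (hV.to_subgroup F)
  refine ⟨i, j, hi, ?_⟩
  have h1 := count (p := p) {v : V | v ∈ W ∧ v ≠ 1} (fun h v hv => ⟨hW h v hv.1, fun h0 => hv.2 (by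
    have := congrArg (fun x => h⁻¹ • x) h0
    simpa using this)⟩) (fun v hv => hu v hv.1 hv.2) B
  have e2 : Nat.card {v : V // v ∈ {v : V | v ∈ W ∧ v ≠ 1} ∧ ∀ h ∈ (B : Subgroup H), h • v = v} =
      Nat.card {v : V // v ∈ F ∧ v ≠ 1} := by
    refine Nat.card_congr (Equiv.subtypeEquivRight fun v => ?_)
    change ((v ∈ W ∧ v ≠ 1) ∧ ∀ h ∈ (B : Subgroup H), h • v = v) ↔ ((v ∈ W ∧ ∀ h ∈ (B : Subgroup H), h • v = v) ∧ v ≠ 1)
    tauto
  rw [e2] at h1
  have h2 := hsub W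
  have h3 := hsub F
  have h4 : Nat.card {v : V // v ∈ W ∧ v ≠ 1} = Nat.card (Sylow p H) * Nat.card {v : V // v ∈ F ∧ v ≠ 1} := h1
  rw [← hi, ← hj, ← h2, h4, ← h3, Nat.add_sub_cancel]

section

variable {G : Type u} [Group G] [Finite G]

variable {t a b : ℕ} {P N H : Subgroup G} [hPn : P.Normal] [hNn : N.Normal]

theorem BCtx.cop (B : BCtx t a b P N H) {α : G} (hα : α ∈ H) : (orderOf α).Coprime (Nat.card P) := by
  have h1 : orderOf α ∣ Nat.card H := by
    have := orderOf_dvd_natCard (⟨α, hα⟩ : H)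
    rwa [Subgroup.orderOf_mk] at this
  exact B.hcop.symm.coprime_dvd_left h1

theorem BCtx.commute_of_mem (B : BCtx t a b P N H) {α : G} (hα : α ∈ H) (hαN : ∀ n ∈ N, α * n = n * α) {y : G}
    (h : α * y * α⁻¹ * y⁻¹ ∈ N) : α * y = y * α := by
  have h1 : ⁅y, α⁆ ∈ N := by
    have : ⁅y, α⁆ = (α * y * α⁻¹ * y⁻¹)⁻¹ := by rw [commutatorElement_def]; group
    rw [this]
    exact N.inv_mem h
  have h2 := Lib.CoprimeStab.commute_of_commutator_commute (H := N)
    ((B.cop hα).coprime_dvd_right (Subgroup.card_dvd_of_le B.hNP)) h1 (hαN _ h1).symm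
  exact h2.eq.symm

/-- a normal abelian Sylow `p`-subgroup of `H` does not centralise `P`. -/
theorem BCtx.not_central (B : BCtx t a b P N H) {p : ℕ} [hp : Fact p.Prime] (hpP : ¬ p ∣ Nat.card P)
    (hd : ∃ d ∈ charDegrees G, p ∣ d) (A : Sylow p ↥H)
    (hA : (A : Subgroup H).Normal) (hAc : IsMulCommutative ↥(A : Subgroup H)) :
    ¬ ∀ x ∈ (A : Subgroup H), ∀ y ∈ P, (x : G) * y = y * x := by
  intro hAP
  let C : Subgroup G := (A : Subgroup H).map H.subtype
  have hmem : ∀ x ∈ C, ∃ hx : x ∈ H, (⟨x, hx⟩ : H) ∈ (A : Subgroup H) := by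
    rintro x ⟨y, hy, rfl⟩
    exact ⟨y.2, hy⟩
  have hCc : ∀ x ∈ C, ∀ y ∈ C, x * y = y * x := by
    intro x hx y hy
    obtain ⟨h1, h2⟩ := hmem x hx
    obtain ⟨h3, h4⟩ := hmem y hy
    have := hAc.is_comm.comm (⟨⟨x, h1⟩, h2⟩ : (A : Subgroup H)) ⟨⟨y, h3⟩, h4⟩
    exact congrArg (fun z : (A : Subgroup H) => ((z : H) : G)) this
  have hCn : C.Normal := by
    constructor
    intro x hx g
    have hg : g ∈ H ⊔ P := by rw [sup_comm, B.hPH']; trivial
    obtain ⟨h, hh, n, hn, rfl⟩ := Subgroup.mem_sup_of_normal_right.1 hg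
    obtain ⟨h2, h3⟩ := hmem x hx
    have h1 : h * n * x * (h * n)⁻¹ = h * x * h⁻¹ := by
      have : n * x = x * n := (hAP _ h3 n hn).symm
      calc h * n * x * (h * n)⁻¹ = h * (n * x) * n⁻¹ * h⁻¹ := by group
        _ = h * x * h⁻¹ := by rw [this]; group
    rw [h1]
    exact ⟨_, hA.conj_mem _ h3 ⟨h, hh⟩, rfl⟩
  refine false_of_abelian hCn hCc (p := p) ?_ hd
  -- index
  have h1 : Nat.card C = Nat.card (A : Subgroup H) := Subgroup.card_map_of_injective H.subtype_injective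
  have h2 : Nat.card P * Nat.card H = Nat.card G := by
    have h3 := index_eq (M := P) (T := P) B.hPH B.hPH' le_rfl
    rw [B.hPH, Subgroup.relIndex_bot_left] at h3
    rw [← h3, Subgroup.card_mul_index]
  have h3 : C.index = Nat.card P * (A : Subgroup H).index := by
    have e1 := C.card_mul_index
    have e2 := (A : Subgroup H).card_mul_index
    rw [h1, ← h2, ← e2] at e1
    have h0 : 0 < Nat.card (A : Subgroup H) := Nat.card_pos
    apply Nat.eq_of_mul_eq_mul_left h0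
    rw [e1]
    ring
  rw [h3]
  intro h4
  rcases (Nat.Prime.dvd_mul hp.out).1 h4 with h5 | h5
  · exact hpP h5
  · exact A.not_dvd_index h5

/-- membership in the stabiliser of a linear character of `P` -/
theorem mem_stab_lin {μ : ↥P →* ℂˣ} {g : G} : g ∈ stab P H (fun n => (μ n : ℂ)) ↔
    g ∈ H ∧ ∀ y : P, μ ⟨g * y * g⁻¹, hPn.conj_mem y y.2 g⟩ = μ y := by
  rw [mem_stab]
  refine and_congr_right fun _ => forall_congr' fun y => ?_
  exact ⟨fun h => Units.ext h, fun h => congrArg Units.val h⟩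

/-- some linear character of `P` is moved. -/
theorem BCtx.exists_moved (B : BCtx t a b P N H) {p : ℕ} [hp : Fact p.Prime] (hpP : ¬ p ∣ Nat.card P)
    (hd : ∃ d ∈ charDegrees G, p ∣ d) (A : Sylow p ↥H)
    (hA : (A : Subgroup H).Normal) (hAc : IsMulCommutative ↥(A : Subgroup H))
    (hAN : ∀ x ∈ (A : Subgroup H), ∀ n ∈ N, (x : G) * n = n * x) :
    ∃ μ : ↥P →* ℂˣ, ¬ ∀ x ∈ (A : Subgroup H), (x : G) ∈ stab P H (fun n => (μ n : ℂ)) := by
  by_contra hcon
  push Not at hcon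
  apply B.not_central hpP hd A hA hAc
  intro x hx y hy
  apply B.commute_of_mem x.2 (hAN x hx)
  by_contra hnm
  have hN' : (N.subgroupOf P).Normal := hNn.subgroupOf P
  have hz : (x : G) * y * (x : G)⁻¹ * y⁻¹ ∈ P := P.mul_mem (hPn.conj_mem y hy x) (P.inv_mem hy)
  obtain ⟨μ, hμ1, hμ2⟩ := exists_lin (N.subgroupOf P)
    (fun x y => Subgroup.mem_subgroupOf.2 (B.hPcN x x.2 y y.2)) (y := ⟨_, hz⟩)
    (fun h => hnm (Subgroup.mem_subgroupOf.1 h))
  apply hμ1
  have h1 := (mem_stab_lin.1 (hcon μ x hx)).2 ⟨y, hy⟩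
  have h2 : (⟨(x : G) * y * (x : G)⁻¹ * y⁻¹, hz⟩ : P) = ⟨(x : G) * y * (x : G)⁻¹, hPn.conj_mem y hy x⟩ * (⟨y, hy⟩ : P)⁻¹ := rfl
  rw [h2, map_mul, map_inv]
  change μ ⟨(x : G) * y * (x : G)⁻¹, _⟩ * _ = 1
  rw [h1, mul_inv_cancel]

/-- both Sylow subgroups are normal and centralise `N`. -/
theorem BCtx.false_of_both (B : BCtx t a b P N H) [hpa : Fact a.Prime] [hpb : Fact b.Prime]
    (haP : ¬ a ∣ Nat.card P) (hbP : ¬ b ∣ Nat.card P) (A : Sylow a ↥H)
    (hA : (A : Subgroup H).Normal) (hAc : IsMulCommutative ↥(A : Subgroup H))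
    (hAN : ∀ x ∈ (A : Subgroup H), ∀ n ∈ N, (x : G) * n = n * x) (A' : Sylow b ↥H)
    (hA' : (A' : Subgroup H).Normal) (hAc' : IsMulCommutative ↥(A' : Subgroup H))
    (hAN' : ∀ x ∈ (A' : Subgroup H), ∀ n ∈ N, (x : G) * n = n * x) : False := by
  obtain ⟨μ1, h1⟩ := B.exists_moved haP B.c.da A hA hAc hAN
  obtain ⟨μ2, h2⟩ := B.exists_moved hbP B.c.db A' hA' hAc' hAN'
  have key : ∀ (x : G), ∀ μ ν : ↥P →* ℂˣ, x ∈ stab P H (fun n => (μ n : ℂ)) →
      x ∈ stab P H (fun n => ((μ * ν) n : ℂ)) → x ∈ stab P H (fun n => (ν n : ℂ)) := by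
    intro x μ ν hμ hμν
    rw [mem_stab_lin] at hμ hμν ⊢
    refine ⟨hμ.1, fun y => ?_⟩
    have h3 := hμν.2 y
    rw [MonoidHom.mul_apply, MonoidHom.mul_apply, hμ.2 y] at h3
    exact mul_left_cancel h3
  obtain ⟨μ, hμ1, hμ2⟩ : ∃ μ : ↥P →* ℂˣ, (¬ ∀ x ∈ (A : Subgroup H), (x : G) ∈ stab P H (fun n => (μ n : ℂ))) ∧
      ¬ ∀ x ∈ (A' : Subgroup H), (x : G) ∈ stab P H (fun n => (μ n : ℂ)) := by
    by_cases h3 : ∀ x ∈ (A' : Subgroup H), (x : G) ∈ stab P H (fun n => (μ1 n : ℂ))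
    · by_cases h4 : ∀ x ∈ (A : Subgroup H), (x : G) ∈ stab P H (fun n => (μ2 n : ℂ))
      · refine ⟨μ1 * μ2, fun h5 => h1 fun x hx => ?_, fun h5 => h2 fun x hx => ?_⟩
        · exact key x μ2 μ1 (h4 x hx) (by rw [mul_comm μ2 μ1]; exact h5 x hx)
        · exact key x μ1 μ2 (h3 x hx) (h5 x hx)
      · exact ⟨μ2, h4, h2⟩
    · exact ⟨μ1, h1, h3⟩
  have h5 := degree_linear B.hPH B.hPH' μ (one_mem (G := ↥(stab P H (fun n => (μ n : ℂ)))))
  rw [mul_one] at h5
  exact B.c.ab _ h5 (dvd_relIndex A hA hμ1) (dvd_relIndex A' hA' hμ2)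

theorem finite_lin {X : Type u} [Group X] [Finite X] : Finite (X →* ℂˣ) := by
  have := finite_irr (G := X)
  refine Finite.of_injective (fun μ : X →* ℂˣ =>
    (⟨fun x => (μ x : ℂ), Characters.Linear.isIrrCharacter_hom μ⟩ : IrrCharacter X)) ?_
  intro μ ν h
  ext x
  exact congrFun (congrArg Subtype.val h) x

theorem isPGroup_lin {X : Type u} [Group X] [Finite X] {t : ℕ} [Fact t.Prime] (hX : IsPGroup t X) :
    IsPGroup t (X →* ℂˣ) := by
  obtain ⟨n, hn⟩ := IsPGroup.iff_card.1 hX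
  intro μ
  refine ⟨n, ?_⟩
  ext x
  rw [MonoidHom.pow_apply, ← map_pow, ← hn, pow_card_eq_one', map_one]
  rfl

/-- one Sylow subgroup is normal and centralises `N`, the other one does not centralise `N`. -/
theorem BCtx.false_of_one (B : BCtx t a b P N H) [ht : Fact t.Prime] [hpa : Fact a.Prime] [hpb : Fact b.Prime]
    (haP : ¬ a ∣ Nat.card P) (A : Sylow a ↥H)
    (hA : (A : Subgroup H).Normal) (hAc : IsMulCommutative ↥(A : Subgroup H))
    (hAN : ∀ x ∈ (A : Subgroup H), ∀ n ∈ N, (x : G) * n = n * x)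
    (uB : letI := linAct N H
      Cfsg.Agent.H273.Palfy.UniqueSylow b ↥H (↥N →* ℂˣ))
    (nB : letI := linAct N H
      ∃ A : Sylow b H, ∃ h ∈ (A : Subgroup H), ∃ v : ↥N →* ℂˣ, h • v ≠ v) : False := by
  classical
  have hsolv := B.c.solv
  have hfinP : Finite (↥P →* ℂˣ) := finite_lin
  have hfinN : Finite (↥N →* ℂˣ) := finite_lin
  -- the centraliser of `A` in `P`
  let D : Subgroup ↥P :=
    { carrier := {y | ∀ x ∈ (A : Subgroup H), (x : G) * y = y * x}
      one_mem' := by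
        intro x _
        rw [OneMemClass.coe_one, mul_one, one_mul]
      mul_mem' := by
        intro y z hy hz x hx
        rw [Subgroup.coe_mul, ← mul_assoc, hy x hx, mul_assoc, hz x hx, mul_assoc]
      inv_mem' := by
        intro y hy x hx
        have h1 := hy x hx
        rw [Subgroup.coe_inv]
        calc (x : G) * (y : G)⁻¹ = (y : G)⁻¹ * ((y : G) * x) * (y : G)⁻¹ := by group
          _ = (y : G)⁻¹ * ((x : G) * y) * (y : G)⁻¹ := by rw [h1]
          _ = (y : G)⁻¹ * x := by group }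
  have hND : ∀ n : ↥P, (n : G) ∈ N → n ∈ D := fun n hn x hx => hAN x hx n hn
  have hDK : ∀ x y : ↥P, x * y * x⁻¹ * y⁻¹ ∈ D := fun x y => hND _ (B.hPcN x x.2 y y.2)
  have hDn : D.Normal := by
    constructor
    intro d hd y
    have : y * d * y⁻¹ = (y * d * y⁻¹ * d⁻¹) * d := by group
    rw [this]
    exact D.mul_mem (hDK y d) hd
  -- the linear characters trivial on `D`
  let V1 : Subgroup (↥P →* ℂˣ) :=
    { carrier := {μ | ∀ k ∈ D, μ k = 1}
      one_mem' := fun k _ => rfl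
      mul_mem' := by
        intro μ ν hμ hν k hk
        rw [MonoidHom.mul_apply, hμ k hk, hν k hk, one_mul]
      inv_mem' := by
        intro μ hμ k hk
        rw [MonoidHom.inv_apply, hμ k hk, inv_one] }
  have hDidx : D.index ≤ Nat.card V1 := index_le_card D hDK
  -- nontrivial characters trivial on `D` are moved by `A`
  have hmove : ∀ μ ∈ V1, μ ≠ 1 → ¬ ∀ x ∈ (A : Subgroup H), (x : G) ∈ stab P H (fun n => (μ n : ℂ)) := by
    intro μ hμ hμ1 hfix
    apply hμ1
    let C : Subgroup G := (A : Subgroup H).map H.subtype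
    have hmem : ∀ x ∈ C, ∃ hx : x ∈ H, (⟨x, hx⟩ : H) ∈ (A : Subgroup H) := by
      rintro x ⟨y, hy, rfl⟩
      exact ⟨y.2, hy⟩
    have hCP : IsPGroup a C := A.isPGroup'.map _
    have hCn : C ≤ Subgroup.normalizer (P : Set G) := by
      rw [Subgroup.normalizer_eq_top]
      exact le_top
    -- `μ` is trivial on `[P, C]`
    have hcomm : (⁅P, C⁆ : Subgroup G) ≤ (μ.ker).map P.subtype := by
      rw [Subgroup.commutator_le]
      intro y hy x hx
      obtain ⟨h1, h2⟩ := hmem x hx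
      have h3 := (mem_stab_lin.1 (hfix _ h2)).2 ⟨y⁻¹, P.inv_mem hy⟩
      have h4 : x * y⁻¹ * x⁻¹ ∈ P := hPn.conj_mem _ (P.inv_mem hy) x
      refine ⟨⟨y, hy⟩ * ⟨x * y⁻¹ * x⁻¹, h4⟩, ?_, ?_⟩
      · rw [SetLike.mem_coe, MonoidHom.mem_ker, map_mul]
        change μ ⟨y, hy⟩ * μ ⟨x * y⁻¹ * x⁻¹, _⟩ = 1
        have h5 : μ ⟨x * y⁻¹ * x⁻¹, h4⟩ = μ ⟨y⁻¹, P.inv_mem hy⟩ := h3
        rw [h5, ← map_mul]
        have : (⟨y, hy⟩ * ⟨y⁻¹, P.inv_mem hy⟩ : P) = 1 := Subtype.ext (mul_inv_cancel y)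
        rw [this, map_one]
      · rw [commutatorElement_def]
        change y * (x * y⁻¹ * x⁻¹) = _
        group
    ext y
    obtain ⟨m, hm, c, hc, hmc⟩ := Lib.CoprimeCommutator.exists_commutator_mul_fixed_of_isPGroup a C P hCP hCn
      haP y y.2
    obtain ⟨m', hm', hmm⟩ := hcomm hm
    have hcP : c ∈ P := (Subgroup.mem_inf.1 hc).1
    have hcD : (⟨c, hcP⟩ : P) ∈ D := by
      intro x hx
      have h6 := Subgroup.mem_centralizer_iff.1 (Subgroup.mem_inf.1 hc).2 x ⟨x, hx, rfl⟩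
      exact h6
    have h7 : y = m' * ⟨c, hcP⟩ := by
      apply Subtype.ext
      rw [hmc, ← hmm]
      rfl
    rw [h7, map_mul, (MonoidHom.mem_ker).1 hm', hμ _ hcD, one_mul]
    rfl
  -- uniqueness of Sylow `b`-subgroups fixing a nontrivial element of `V1`
  have huV1 : ∀ μ ∈ V1, μ ≠ 1 → ∃ A' : Sylow b H, (∀ h ∈ (A' : Subgroup H), (h : G) ∈ stab P H (fun n => (μ n : ℂ))) ∧
      ∀ B' : Sylow b H, (∀ h ∈ (B' : Subgroup H), (h : G) ∈ stab P H (fun n => (μ n : ℂ))) → B' = A' := by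
    intro μ hμ hμ1
    have h1 := dvd_relIndex A hA (hmove μ hμ hμ1)
    obtain ⟨A', -, h2, h3⟩ := uniq_of_degrees hsolv (stab_le P H (fun n => (μ n : ℂ))) (p := b) (by
      intro d hd
      exact B.c.ab _ (degree_linear B.hPH B.hPH' μ hd) (dvd_mul_of_dvd_left h1 _))
    exact ⟨A', h2, h3⟩
  -- two counts
  obtain ⟨R, h0, hh0, v0, hv0⟩ := nB
  have c1 : ∃ i j : ℕ, Nat.card V1 = t ^ i ∧ t ^ i = Nat.card (Sylow b H) * (t ^ j - 1) + 1 := by
    let _ := linAct P H
    refine count_group (isPGroup_lin B.hP) V1 ?_ ?_ R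
    · intro h μ hμ k hk
      rw [linAct_apply P H h μ k]
      apply hμ
      intro x hx
      have h1 := hk (h * x * h⁻¹) (hA.conj_mem x hx h)
      change (x : G) * ((h : G)⁻¹ * k * h) = (h : G)⁻¹ * k * h * x
      have h2 : ((h * x * h⁻¹ : H) : G) = (h : G) * x * (h : G)⁻¹ := rfl
      rw [h2] at h1
      calc (x : G) * ((h : G)⁻¹ * k * h) = (h : G)⁻¹ * (((h : G) * x * (h : G)⁻¹) * k) * h := by group
        _ = (h : G)⁻¹ * (k * ((h : G) * x * (h : G)⁻¹)) * h := by rw [h1]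
        _ = (h : G)⁻¹ * k * h * x := by group
    · intro μ hμ hμ1
      obtain ⟨A', h2, h3⟩ := huV1 μ hμ hμ1
      exact ⟨A', fun h hh => (smul_eq_iff P H h μ).2 (h2 h hh), fun B' hB' => h3 B' fun h hh =>
        (smul_eq_iff P H h μ).1 (hB' h hh)⟩
  have hNp : IsPGroup t N := B.hP.to_le B.hNP
  have c2 : ∃ i j : ℕ, Nat.card (⊤ : Subgroup (↥N →* ℂˣ)) = t ^ i ∧
      t ^ i = Nat.card (Sylow b H) * (t ^ j - 1) + 1 := by
    let _ := linAct N H
    refine count_group (isPGroup_lin hNp) ⊤ (fun h w _ => trivial) ?_ R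
    intro w _ hw
    obtain ⟨A', -, h2, h3⟩ := uB w hw
    exact ⟨A', h2, h3⟩
  obtain ⟨i, j, hi, hij⟩ := c1
  obtain ⟨k, l, hk, hkl⟩ := c2
  rw [Subgroup.card_top, card_lin B.hN] at hk
  -- at least two Sylow `b`-subgroups
  have hm : 2 ≤ Nat.card (Sylow b H) := by
    have h1 : 1 < Nat.card (Sylow b H) := by
      rw [Finite.one_lt_card_iff_nontrivial]
      let _ := linAct N H
      have hv1 : v0 ≠ 1 := by
        rintro rfl
        exact hv0 ((linAct N H).smul_one h0)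
      obtain ⟨A', -, h2, h3⟩ := uB v0 hv1
      refine ⟨R, A', ?_⟩
      rintro rfl
      exact hv0 (h2 h0 hh0)
    omega
  have hk1 : 1 ≤ k := by
    rcases Nat.eq_zero_or_pos k with h | h
    · exfalso
      rw [h, pow_zero] at hk
      exact B.hN1 (Subgroup.card_eq_one.1 hk)
    · exact h
  -- an element of `[P, A]` not centralised by `A`
  obtain ⟨x0, hx0, α0, hα0, hyD⟩ : ∃ x0 : G, ∃ hx0 : x0 ∈ P, ∃ α0 : H, ∃ _ : α0 ∈ (A : Subgroup H),
      (⟨x0 * α0 * x0⁻¹ * (α0 : G)⁻¹, by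
        have : x0 * α0 * x0⁻¹ * (α0 : G)⁻¹ = x0 * (α0 * x0⁻¹ * (α0 : G)⁻¹) := by group
        rw [this]
        exact P.mul_mem hx0 (hPn.conj_mem _ (P.inv_mem hx0) _)⟩ : P) ∉ D := by
    by_contra hcon
    push Not at hcon
    apply B.not_central haP B.c.da A hA hAc
    intro α hα y hy
    have h1 := hcon y hy α hα
    have h2 : ⁅y, (α : G)⁆ ∈ P := by
      rw [commutatorElement_def]
      have : y * α * y⁻¹ * (α : G)⁻¹ = y * (α * y⁻¹ * (α : G)⁻¹) := by group
      rw [this]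
      exact P.mul_mem hy (hPn.conj_mem _ (P.inv_mem hy) _)
    have h3 : Commute ⁅y, (α : G)⁆ (α : G) := (h1 α hα).symm
    exact (Lib.CoprimeStab.commute_of_commutator_commute (B.cop α.2) h2 h3).eq.symm
  set y : G := x0 * α0 * x0⁻¹ * (α0 : G)⁻¹ with hy
  have hyP : y ∈ P := by
    have : y = x0 * (α0 * x0⁻¹ * (α0 : G)⁻¹) := by rw [hy]; group
    rw [this]
    exact P.mul_mem hx0 (hPn.conj_mem _ (P.inv_mem hx0) _)
  have hyD' : (⟨y, hyP⟩ : P) ∉ D := hyD
  -- `D` centralises `y`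
  have hDy : ∀ d : ↥P, d ∈ D → (d : G) * y = y * d := by
    intro d hd
    have e1 := hd α0 hα0
    have hn : x0⁻¹ * d * x0 * (d : G)⁻¹ ∈ N := by
      have := B.hPcN x0⁻¹ (P.inv_mem hx0) d d.2
      rwa [inv_inv] at this
    set n := x0⁻¹ * d * x0 * (d : G)⁻¹ with hndef
    have e2 : (d : G) * x0 * (d : G)⁻¹ = x0 * n := by rw [hndef]; group
    have e3 := hAN α0 hα0 n hn
    have e1' : (d : G) * α0 * (d : G)⁻¹ = α0 := by rw [← e1, mul_inv_cancel_right]
    have e6 : (d : G) * y * (d : G)⁻¹ = y := by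
      calc (d : G) * y * (d : G)⁻¹ = ((d : G) * x0 * (d : G)⁻¹) * ((d : G) * α0 * (d : G)⁻¹) *
            ((d : G) * x0 * (d : G)⁻¹)⁻¹ * ((d : G) * α0 * (d : G)⁻¹)⁻¹ := by rw [hy]; group
        _ = (x0 * n) * α0 * (x0 * n)⁻¹ * (α0 : G)⁻¹ := by rw [e2, e1']
        _ = x0 * (n * α0) * n⁻¹ * x0⁻¹ * (α0 : G)⁻¹ := by group
        _ = x0 * (α0 * n) * n⁻¹ * x0⁻¹ * (α0 : G)⁻¹ := by rw [e3]
        _ = y := by rw [hy]; group
    calc (d : G) * y = ((d : G) * y * (d : G)⁻¹) * d := by group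
      _ = y * d := by rw [e6]
  -- the commutator map
  let φ : ↥P →* ↥N :=
    { toFun := fun x => ⟨x * y * (x : G)⁻¹ * y⁻¹, B.hPcN x x.2 y hyP⟩
      map_one' := Subtype.ext (by
        change ((1 : P) : G) * y * ((1 : P) : G)⁻¹ * y⁻¹ = 1
        rw [OneMemClass.coe_one]; group)
      map_mul' := by
        intro x x'
        apply Subtype.ext
        change ((x * x' : P) : G) * y * ((x * x' : P) : G)⁻¹ * y⁻¹ =
          ((x : G) * y * (x : G)⁻¹ * y⁻¹) * ((x' : G) * y * (x' : G)⁻¹ * y⁻¹)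
        rw [Subgroup.coe_mul]
        have h1 := B.hPcN x' x'.2 y hyP
        have h2 := B.hNz x x.2 _ h1
        have h3 := B.hNz _ (B.hNP (B.hPcN x x.2 y hyP)) _ h1
        rw [h3]
        calc (x : G) * x' * y * ((x : G) * x')⁻¹ * y⁻¹
            = ((x : G) * (x' * y * (x' : G)⁻¹ * y⁻¹)) * y * (x : G)⁻¹ * y⁻¹ := by group
          _ = ((x' * y * (x' : G)⁻¹ * y⁻¹) * x) * y * (x : G)⁻¹ * y⁻¹ := by rw [h2]
          _ = _ := by group }
  have hφ : ∀ x : ↥P, ((φ x : ↥N) : G) = x * y * (x : G)⁻¹ * y⁻¹ := fun x => rfl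
  have hsurj : φ.range = ⊤ := by
    by_contra hne
    obtain ⟨n, hn⟩ : ∃ n : ↥N, n ∉ φ.range := by
      by_contra hcon
      push Not at hcon
      exact hne (eq_top_iff.2 fun n _ => hcon n)
    have hNc : ∀ x z : ↥N, x * z * x⁻¹ * z⁻¹ = 1 := by
      intro x z
      have : x * z = z * x := Subtype.ext (B.hN x x.2 z z.2)
      rw [this]; group
    have hrn : φ.range.Normal := by
      constructor
      intro x hx g
      have : g * x * g⁻¹ = x := by
        have h1 : g * x = x * g := Subtype.ext (B.hN g g.2 x x.2)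
        rw [h1, mul_inv_cancel_right]
      rwa [this]
    obtain ⟨lam, h1, h2⟩ := exists_lin φ.range (fun x z => by rw [hNc]; exact Subgroup.one_mem _) hn
    have hl1 : lam ≠ 1 := by
      rintro rfl
      exact h1 rfl
    apply hyD'
    intro x hx
    apply B.commute_of_mem x.2 (hAN x hx)
    exact B.star B.c.ta A hA hAN hl1 hyP (fun z hz => h2 _ ⟨⟨z, hz⟩, rfl⟩) x hx
  have hker : D < φ.ker := by
    refine lt_of_le_of_ne ?_ ?_
    · intro d hd
      rw [MonoidHom.mem_ker]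
      apply Subtype.ext
      rw [hφ, hDy d hd]
      change y * (d : G) * (d : G)⁻¹ * y⁻¹ = 1
      group
    · intro h
      apply hyD'
      rw [h, MonoidHom.mem_ker]
      apply Subtype.ext
      rw [hφ]
      change y * y * y⁻¹ * y⁻¹ = 1
      group
  have hidx : φ.ker.index = Nat.card N := by
    rw [Subgroup.index_ker, hsurj, Subgroup.card_top]
  have h1 := Subgroup.index_strictAnti hker
  rw [hidx] at h1
  have hi1 : 1 ≤ i := by
    rcases Nat.eq_zero_or_pos i with h | h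
    · exfalso
      rw [h, pow_zero] at hi
      have : 0 < Nat.card N := Nat.card_pos
      omega
    · exact h
  have h2 := pow_eq ht.out hm hi1 hk1 hij hkl
  rw [← hi, ← hk] at h2
  omega

end

end Cfsg.Agent.H748.Palfy
end

-- part: H748/PalfyMain
section
/-!
# Palfy's three primes theorem (helper748), from the linear group half `KP` (helper273)
-/

set_option autoImplicit false
set_option linter.unusedSectionVars false

namespace Cfsg.Agent.H748.Palfy

open Cfsg Cfsg.Agent.Characters.Core Cfsg.Agent.OddOrderCharacters.IndRes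
  Cfsg.Agent.OddOrderCharacters.NormalInduced Cfsg.Agent.OddOrderCharacters.PF9.CliffGen
  Cfsg.Agent.H681.DegBasic
open scoped commutatorElement

universe u

section

variable {G : Type u} [Group G] [Finite G]

/-- a minimal normal `t`-subgroup is centralised by a normal `t`-subgroup -/
theorem central_of_min {t : ℕ} [ht : Fact t.Prime] {P N : Subgroup G} [hPn : P.Normal] [hNn : N.Normal]
    (hP : IsPGroup t P) (hNP : N ≤ P) (hN1 : N ≠ ⊥) (hmin : ∀ K : Subgroup G, K.Normal → K ≤ N → K = ⊥ ∨ K = N) :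
    ∀ x ∈ P, ∀ n ∈ N, x * n = n * x := by
  classical
  have hCn : (N ⊓ Subgroup.centralizer (P : Set G)).Normal := by
    constructor
    intro x hx g
    obtain ⟨hxN, hxC⟩ := Subgroup.mem_inf.1 hx
    refine Subgroup.mem_inf.2 ⟨hNn.conj_mem x hxN g, Subgroup.mem_centralizer_iff.2 fun y hy => ?_⟩
    have hy' : g⁻¹ * y * g ∈ P := by
      have := hPn.conj_mem y hy g⁻¹
      rwa [inv_inv] at this
    have h2 := Subgroup.mem_centralizer_iff.1 hxC _ hy'
    calc y * (g * x * g⁻¹) = g * ((g⁻¹ * y * g) * x) * g⁻¹ := by group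
      _ = g * (x * (g⁻¹ * y * g)) * g⁻¹ := by rw [h2]
      _ = g * x * g⁻¹ * y := by group
  rcases hmin _ hCn inf_le_left with h | h
  · exfalso
    let φ : ↥P →* MulAut ↥N := (MulAut.conjNormal : G →* MulAut N).comp P.subtype
    let _ : MulAction ↥P ↥N := MulAction.compHom N φ
    have hsm : ∀ (x : ↥P) (n : ↥N), ((x • n : ↥N) : G) = x * n * (x : G)⁻¹ := fun x n => rfl
    have hdvd : t ∣ Nat.card N := by
      obtain ⟨k, hk⟩ := IsPGroup.iff_card.1 (hP.to_le hNP)
      rw [hk]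
      have : k ≠ 0 := by
        rintro rfl
        rw [pow_zero] at hk
        exact hN1 (Subgroup.card_eq_one.1 hk)
      exact dvd_pow_self t this
    have h1 : (1 : ↥N) ∈ MulAction.fixedPoints ↥P ↥N := by
      intro x
      apply Subtype.ext
      rw [hsm, OneMemClass.coe_one, mul_one, mul_inv_cancel]
    obtain ⟨n, hn, hne⟩ := hP.exists_fixed_point_of_prime_dvd_card_of_fixed_point ↥N hdvd h1
    have h2 : (n : G) ∈ N ⊓ Subgroup.centralizer (P : Set G) := by
      refine Subgroup.mem_inf.2 ⟨n.2, Subgroup.mem_centralizer_iff.2 fun y hy => ?_⟩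
      have h3 := congrArg Subtype.val (hn ⟨y, hy⟩)
      rw [hsm] at h3
      change y * n * y⁻¹ = n at h3
      calc y * (n : G) = (y * n * y⁻¹) * y := by group
        _ = n * y := by rw [h3]
    rw [h, Subgroup.mem_bot] at h2
    exact hne (Subtype.ext h2.symm)
  · intro x hx n hn
    have h1 : n ∈ N ⊓ Subgroup.centralizer (P : Set G) := by rw [h]; exact hn
    exact Subgroup.mem_centralizer_iff.1 (Subgroup.mem_inf.1 h1).2 x hx

/-- the case of a minimal normal `t`-subgroup -/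
theorem caseB (hKP : Cfsg.Agent.H273.Palfy.KP.{u, u}) {t a b : ℕ} [ht : Fact t.Prime] [ha : Fact a.Prime] [hb : Fact b.Prime]
    (hta : t ≠ a) (htb : t ≠ b) (hab : a ≠ b) (c : Ctx G t a b) (N : Subgroup G) [hNn : N.Normal]
    (hN1 : N ≠ ⊥) (hmin : ∀ K : Subgroup G, K.Normal → K ≤ N → K = ⊥ ∨ K = N)
    (hNt : ∀ x ∈ N, x ^ t = 1) (hNp : IsPGroup t N)
    (hq : ∀ d ∈ charDegrees (G ⧸ N), ¬ t ∣ d) : False := by
  classical
  have hsolv := c.solv
  let P0 : Sylow t G := default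
  have hQ := ito_michler (X := G ⧸ N) inferInstance hq (P0.mapSurjective (QuotientGroup.mk'_surjective N))
  have hNP : N ≤ (P0 : Subgroup G) := hNp.le_sylow_of_normal P0
  have hPn : (P0 : Subgroup G).Normal := by
    have h1 : ((P0 : Subgroup G).map (QuotientGroup.mk' N)).Normal := hQ.1
    have h2 := h1.comap (QuotientGroup.mk' N)
    rwa [Subgroup.comap_map_eq, QuotientGroup.ker_mk', sup_eq_left.2 hNP] at h2
  have hPcN : ∀ x ∈ (P0 : Subgroup G), ∀ y ∈ (P0 : Subgroup G), x * y * x⁻¹ * y⁻¹ ∈ N := by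
    intro x hx y hy
    have h1 := hQ.2 (QuotientGroup.mk' N x) ⟨x, hx, rfl⟩ (QuotientGroup.mk' N y) ⟨y, hy, rfl⟩
    rw [← QuotientGroup.ker_mk' N, MonoidHom.mem_ker]
    rw [map_mul, map_mul, map_mul, map_inv, map_inv, h1]
    group
  have hcopidx : (Nat.card (P0 : Subgroup G)).Coprime (P0 : Subgroup G).index := by
    obtain ⟨n, hn⟩ := IsPGroup.iff_card.1 P0.isPGroup'
    have h3 : Nat.card (P0 : Subgroup G) = t ^ n := hn
    rw [h3]
    exact ((Nat.Prime.coprime_iff_not_dvd ht.out).2 P0.not_dvd_index).pow_left n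
  obtain ⟨H, hH⟩ := Subgroup.exists_right_complement'_of_coprime hcopidx
  have hcardH : Nat.card H = (P0 : Subgroup G).index := hH.symm.index_eq_card.symm
  have hnp : ∀ p : ℕ, p.Prime → t ≠ p → ¬ p ∣ Nat.card (P0 : Subgroup G) := by
    intro p hp htp hd
    obtain ⟨n, hn⟩ := IsPGroup.iff_card.1 P0.isPGroup'
    have h3 : Nat.card (P0 : Subgroup G) = t ^ n := hn
    rw [h3] at hd
    exact htp ((Nat.prime_dvd_prime_iff_eq hp ht.out).1 (hp.dvd_of_dvd_pow hd)).symm
  have B : BCtx t a b (P0 : Subgroup G) N H :=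
    { c := c
      hP := P0.isPGroup'
      hPH := hH.disjoint.eq_bot
      hPH' := hH.sup_eq_top
      hcop := by rw [hcardH]; exact hcopidx
      hNP := hNP
      hPcN := hPcN
      hNz := central_of_min P0.isPGroup' hNP hN1 hmin
      hN1 := hN1
      hmin := hmin
      hNt := hNt
      hna := by
        by_contra hcon
        push Not at hcon
        exact false_of_sylow P0 hPn hcon c.dt }
  have B' : BCtx t b a (P0 : Subgroup G) N H :=
    { B with c := c.swap }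
  have uA := uniqueSylow_of hsolv N H (p := a) (B.not_dvd c.ta)
  have uB := uniqueSylow_of hsolv N H (p := b) (B.not_dvd c.tb)
  by_cases nA : letI := linAct N H
      ∃ A : Sylow a H, ∃ h ∈ (A : Subgroup H), ∃ v : ↥N →* ℂˣ, h • v ≠ v
  · by_cases nB : letI := linAct N H
        ∃ A : Sylow b H, ∃ h ∈ (A : Subgroup H), ∃ v : ↥N →* ℂˣ, h • v ≠ v
    · -- the linear group half
      have hfin : Finite (↥N →* ℂˣ) := finite_lin
      have hnt : Nontrivial (↥N →* ℂˣ) := by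
        rw [← Finite.one_lt_card_iff_nontrivial, card_lin B.hN]
        exact (Subgroup.one_lt_card_iff_ne_bot N).2 hN1
      let _ := linAct N H
      obtain ⟨χ, hχ⟩ := hKP ↥H (↥N →* ℂˣ) a b t inferInstance hab (fun v => by
          ext n
          have h1 : n ^ t = 1 := Subtype.ext (hNt n n.2)
          rw [MonoidHom.pow_apply, ← map_pow, h1, map_one]
          rfl) (lin_irr (Or.inr fun x => by
            have hx : x ∈ H ⊔ (P0 : Subgroup G) := by rw [sup_comm, B.hPH']; trivial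
            obtain ⟨h, hh, y, hy, rfl⟩ := Subgroup.mem_sup_of_normal_right.1 hx
            refine ⟨h, hh, fun n hn => ?_⟩
            have h1 := B.hNz y hy n hn
            calc h * y * n * (h * y)⁻¹ = h * (y * n) * y⁻¹ * h⁻¹ := by group
              _ = h * n * h⁻¹ := by rw [h1]; group) B.hN hmin) uA uB nA nB
      have h1 : charDegree (χ : ↥H → ℂ) ∈ charDegrees G := degree_compl B.hPH B.hPH' ⟨χ, rfl⟩
      exact c.ab _ h1 ((dvd_mul_right a b).trans hχ) ((dvd_mul_left b a).trans hχ)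
    · have h1 := normal_of_trivial B.hN hN1 uB nB default
      exact B'.false_of_one (hnp b hb.out htb) default h1.1 h1.2.1 h1.2.2 uA nA
  · have h1 := normal_of_trivial B.hN hN1 uA nA default
    by_cases nB : letI := linAct N H
        ∃ A : Sylow b H, ∃ h ∈ (A : Subgroup H), ∃ v : ↥N →* ℂˣ, h • v ≠ v
    · exact B.false_of_one (hnp a ha.out hta) default h1.1 h1.2.1 h1.2.2 uB nB
    · have h2 := normal_of_trivial B.hN hN1 uB nB default
      exact B.false_of_both (hnp a ha.out hta) (hnp b hb.out htb) default h1.1 h1.2.1 h1.2.2 default h2.1 h2.2.1 h2.2.2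

end

/-- one step: a minimal normal subgroup `N` such that `t` divides no degree of `G / N` -/
theorem step (hKP : Cfsg.Agent.H273.Palfy.KP.{u, u}) {G : Type u} [Group G] [Finite G]
    {t a b : ℕ} [ht : Fact t.Prime] [ha : Fact a.Prime] [hb : Fact b.Prime]
    (hta : t ≠ a) (htb : t ≠ b) (hab : a ≠ b) (c : Ctx G t a b) (N : Subgroup G) [hNn : N.Normal]
    (hN1 : N ≠ ⊥) (hmin : ∀ K : Subgroup G, K.Normal → K ≤ N → K = ⊥ ∨ K = N)
    {ℓ : ℕ} [hℓ : Fact ℓ.Prime] (hNℓ : IsPGroup ℓ N) (hNc : IsMulCommutative N)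
    (hq : ∀ d ∈ charDegrees (G ⧸ N), ¬ t ∣ d) : False := by
  have hN : ∀ x ∈ N, ∀ y ∈ N, x * y = y * x := by
    intro x hx y hy
    exact congrArg Subtype.val (hNc.is_comm.comm (⟨x, hx⟩ : N) ⟨y, hy⟩)
  -- exponent
  have hexp : ∀ x ∈ N, x ^ ℓ = 1 := by
    let K : Subgroup G :=
      { carrier := {x | x ∈ N ∧ x ^ ℓ = 1}
        one_mem' := ⟨N.one_mem, one_pow _⟩
        mul_mem' := by
          rintro x y ⟨hx, hx'⟩ ⟨hy, hy'⟩
          refine ⟨N.mul_mem hx hy, ?_⟩
          rw [(show Commute x y from hN x hx y hy).mul_pow, hx', hy', one_mul]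
        inv_mem' := by
          rintro x ⟨hx, hx'⟩
          exact ⟨N.inv_mem hx, by rw [inv_pow, hx', inv_one]⟩ }
    have hKn : K.Normal := by
      constructor
      rintro x ⟨hx, hx'⟩ g
      refine ⟨hNn.conj_mem x hx g, ?_⟩
      rw [conj_pow, hx', mul_one, mul_inv_cancel]
    rcases hmin K hKn (fun x hx => hx.1) with h | h
    · exfalso
      have hdvd : ℓ ∣ Nat.card N := by
        obtain ⟨k, hk⟩ := IsPGroup.iff_card.1 hNℓ
        rw [hk]
        have : k ≠ 0 := by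
          rintro rfl
          rw [pow_zero] at hk
          exact hN1 (Subgroup.card_eq_one.1 hk)
        exact dvd_pow_self ℓ this
      obtain ⟨x, hx⟩ := exists_prime_orderOf_dvd_card' (G := N) ℓ hdvd
      have h1 : (x : G) ∈ K := ⟨x.2, by
        have := pow_orderOf_eq_one x
        rw [hx] at this
        exact congrArg Subtype.val this⟩
      rw [h, Subgroup.mem_bot] at h1
      have h2 : x = 1 := Subtype.ext h1
      rw [h2, orderOf_one] at hx
      exact hℓ.out.one_lt.ne hx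
    · intro x hx
      have h1 : x ∈ K := by rw [h]; exact hx
      exact h1.2
  by_cases htl : ℓ = t
  · subst htl
    exact caseB hKP hta htb hab c N hN1 hmin hexp hNℓ hq
  · refine caseA hKP hab c N hN hN1 hmin (ℓ := ℓ) hexp ?_ hq
    intro hd
    obtain ⟨n, hn⟩ := IsPGroup.iff_card.1 hNℓ
    rw [hn] at hd
    exact htl ((Nat.prime_dvd_prime_iff_eq ht.out hℓ.out).1 (ht.out.dvd_of_dvd_pow hd)).symm

theorem Ctx.rot {G : Type u} [Group G] {t a b : ℕ} (c : Ctx G t a b) : Ctx G a b t :=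
  ⟨c.solv, c.da, c.db, c.dt, c.ab, fun d hd h1 h2 => c.ta d hd h2 h1, fun d hd h1 h2 => c.tb d hd h2 h1⟩

theorem main (hKP : Cfsg.Agent.H273.Palfy.KP.{u, u}) (n : ℕ) : ∀ (G : Type u) [Group G] [Finite G], Nat.card G ≤ n →
    ∀ {t a b : ℕ} [Fact t.Prime] [Fact a.Prime] [Fact b.Prime], t ≠ a → t ≠ b → a ≠ b → Ctx G t a b → False := by
  induction n with
  | zero =>
    intro G _ _ hn
    exact absurd hn (by have := Nat.card_pos (α := G); omega)
  | succ n ih =>
    intro G _ _ hn t a b ht ha hb hta htb hab c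
    have hsolv := c.solv
    have hnt : Nontrivial G := by
      by_contra hcon
      rw [not_nontrivial_iff_subsingleton] at hcon
      obtain ⟨d, hd, htd⟩ := c.dt
      have h1 := dvd_card hd
      rw [Nat.card_of_subsingleton (1 : G)] at h1
      exact ht.out.one_lt.ne' (Nat.dvd_one.1 (htd.trans h1))
    obtain ⟨ℓ, N, hℓ, hNn, hNℓ, hNc, hN1, hmin⟩ := Solvable.Carter.exists_min_normal G
    have : Fact ℓ.Prime := ⟨hℓ⟩
    by_cases ht' : ∀ d ∈ charDegrees (G ⧸ N), ¬ t ∣ d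
    · exact step hKP hta htb hab c N hN1 hmin hNℓ hNc ht'
    by_cases ha' : ∀ d ∈ charDegrees (G ⧸ N), ¬ a ∣ d
    · exact step hKP hab hta.symm htb.symm c.rot N hN1 hmin hNℓ hNc ha'
    by_cases hb' : ∀ d ∈ charDegrees (G ⧸ N), ¬ b ∣ d
    · exact step hKP htb.symm hab.symm hta c.rot.rot N hN1 hmin hNℓ hNc hb'
    push Not at ht' ha' hb'
    have hcard : Nat.card (G ⧸ N) ≤ n := by
      have h1 := Subgroup.card_eq_card_quotient_mul_card_subgroup N
      have h2 : 1 < Nat.card N := by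
        rw [Subgroup.one_lt_card_iff_ne_bot]; exact hN1
      have h3 : 0 < Nat.card (G ⧸ N) := Nat.card_pos
      nlinarith
    have hq : ∀ d ∈ charDegrees (G ⧸ N), d ∈ charDegrees G := fun d hd =>
      charDegrees_comp (QuotientGroup.mk' N) (QuotientGroup.mk'_surjective N) hd
    exact ih (G ⧸ N) hcard hta htb hab
      ⟨inferInstance, ht', ha', hb', fun d hd => c.ta d (hq d hd), fun d hd => c.tb d (hq d hd),
        fun d hd => c.ab d (hq d hd)⟩

/-- **Palfy's three primes theorem**, from the linear group half. -/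
theorem palfy_of_KP (hKP : Cfsg.Agent.H273.Palfy.KP.{u, u}) {G : Type u} [Group G] [Finite G] (hG : Group.IsSolvable G)
    {p q r : ℕ} (hp : p ∈ Cfsg.degreePrimes G) (hq : q ∈ Cfsg.degreePrimes G) (hr : r ∈ Cfsg.degreePrimes G)
    (hpq : p ≠ q) (hqr : q ≠ r) (hpr : p ≠ r) :
    Cfsg.Agent.H671.H5.Adj p q G ∨ Cfsg.Agent.H671.H5.Adj q r G ∨ Cfsg.Agent.H671.H5.Adj p r G := by
  by_contra hcon
  push Not at hcon
  obtain ⟨h1, h2, h3⟩ := hcon
  obtain ⟨hpp, dp⟩ := hp
  obtain ⟨hqp, dq⟩ := hq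
  obtain ⟨hrp, dr⟩ := hr
  have : Fact p.Prime := ⟨hpp⟩
  have : Fact q.Prime := ⟨hqp⟩
  have : Fact r.Prime := ⟨hrp⟩
  have key : ∀ {x y : ℕ}, x.Prime → y.Prime → x ≠ y → ¬ Cfsg.Agent.H671.H5.Adj x y G →
      ∀ d ∈ charDegrees G, x ∣ d → ¬ y ∣ d := by
    intro x y hx hy hxy hna d hd hxd hyd
    exact hna ⟨hxy, hx, hy, d, hd, Nat.Coprime.mul_dvd_of_dvd_of_dvd ((Nat.coprime_primes hx hy).2 hxy) hxd hyd⟩
  exact main hKP _ G le_rfl hpq hpr hqr
    ⟨hG, dp, dq, dr, key hpp hqp hpq h1, key hpp hrp hpr h3, key hqp hrp hqr h2⟩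

end Cfsg.Agent.H748.Palfy
end
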